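import Groth.Agent.LS17.NefH1.MulSurj
import Groth.Agent.Growth22.GenBy
import Groth.Agent.AmpleVan.Pull

/-! Ample modules are nef; generating sections; multiplication by the unit. -/

noncomputable section

set_option linter.style.haveILetI false
set_option linter.unusedSectionVars false
set_option backward.isDefEq.respectTransparency false
set_option backward.isDefEq.respectTransparency.types false
set_option maxHeartbeats 800000

universe u

open CategoryTheory CategoryTheory.Limits AlgebraicGeometry TopologicalSpace Opposite MonoidalCategory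

namespace Groth.Agent.LS17.NefH1

open Groth.Agent Groth.Agent.H23

variable {X : Scheme.{u}}

/-- The degree of an ample module on an integral curve over a field is nonnegative. -/
theorem deg_nonneg_of_isAmple {K : Type u} [Field K] {C : Scheme.{u}} [C.Over (Spec (CommRingCat.of K))]
    [IsProper (C ↘ Spec (CommRingCat.of K))] [IsIntegral C] (hdim : topologicalKrullDim C = 1) {M : C.Modules}
    (hM : CohB1.IsAmple M) : 0 ≤ Curv2.deg K C M 1 :=
  ((VarBase.isAmple_iff_deg_pos K hdim hM.1).1 hM).le

theorem isAmple_pullback_closed {Z : Scheme.{u}} (i : Z ⟶ X) [IsClosedImmersion i] {L : X.Modules}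
    (hL : CohB1.IsAmple L) : CohB1.IsAmple ((Scheme.Modules.pullback i).obj L) := by
  haveI : CompactSpace X := hL.2.1
  haveI : CompactSpace Z := QuasiCompact.compactSpace_of_compactSpace i
  exact AmpleVan.isAmple_pullback_of_isEmbedding i i.isClosedEmbedding.isEmbedding hL

/-- An ample module is nef. -/
theorem nefCond_of_isAmple (k : Type u) [Field k] [X.Over (Spec (CommRingCat.of k))]
    [IsProper (X ↘ Spec (CommRingCat.of k))] {L : X.Modules} (hL : CohB1.IsAmple L) : NefCond k L := by
  intro J hJ hJd
  letI : J.subscheme.Over (Spec (CommRingCat.of k)) := ⟨J.subschemeι ≫ (X ↘ (Spec (CommRingCat.of k)))⟩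
  haveI : IsProper (J.subscheme ↘ Spec (CommRingCat.of k)) :=
    inferInstanceAs (IsProper (J.subschemeι ≫ (X ↘ Spec (CommRingCat.of k))))
  exact deg_nonneg_of_isAmple hJd (isAmple_pullback_closed J.subschemeι hL)

/-- An ample module is relatively nef. -/
theorem relNef_of_isAmple (A : Type u) [CommRing A] [X.Over (Spec (CommRingCat.of A))]
    [IsProper (X ↘ Spec (CommRingCat.of A))] {L : X.Modules} (hL : CohB1.IsAmple L) : RelNef (A := A) L := by
  intro K _ i J t hJ hJd ht
  letI : J.subscheme.Over (Spec (CommRingCat.of K)) := ⟨t⟩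
  haveI : IsProper (J.subscheme ↘ Spec (CommRingCat.of K)) := by
    haveI : IsProper (t ≫ Spec.map (CommRingCat.ofHom i)) := by rw [ht]; infer_instance
    exact IsProper.of_comp t (Spec.map (CommRingCat.ofHom i))
  exact deg_nonneg_of_isAmple hJd (isAmple_pullback_closed J.subschemeι hL)

/-- A scheme of dimension at most one has fibres of dimension at most one over a field. -/
theorem dimLE_of_dim (k : Type u) [Field k] [X.Over (Spec (CommRingCat.of k))]
    [IsProper (X ↘ Spec (CommRingCat.of k))] (hdim : topologicalKrullDim X ≤ 1) : DimLE k (X := X) := fun y => by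
  refine le_trans ?_ hdim
  refine le_of_eq ((((X ↘ Spec (CommRingCat.of k)).fiberHomeo y).isHomeomorph.topologicalKrullDim_eq).trans ?_)
  have huniv : (X ↘ Spec (CommRingCat.of k)).base ⁻¹' {y} = Set.univ :=
    Set.eq_univ_of_forall fun z => Subsingleton.elim _ _
  exact (Homeomorph.setCongr huniv).trans (Homeomorph.Set.univ X) |>.isHomeomorph.topologicalKrullDim_eq

/-- Finitely many generating sections of a globally generated invertible module. -/
theorem exists_sections [CompactSpace X] {L : X.Modules} (hL : PicF.IsInvertible L)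
    (hgg : Curv2.IsGloballyGenerated L) :
    ∃ (b : ℕ) (σ : Fin b → Γ(L, ⊤)), ∀ x : X, ∃ j, x ∈ TrivBasic.locus (σ j) := by
  obtain ⟨ι, s, hs⟩ := Growth22.exists_generatedBy_of_isGloballyGenerated hL hgg
  obtain ⟨b, σ, hσ⟩ := Ega2Va.exists_fin_generated hL s hs
  refine ⟨b, σ, fun x => ?_⟩
  obtain ⟨j, U, hx, hU⟩ := InvX.exists_frame_of_generated hL σ x (hσ x)
  exact ⟨j, TrivBasic.le_locus hU hx⟩

/-- `O ⊗ M ⟶ M`. -/
def unitTensor (M : X.Modules) : CohB1.tensorMod (Coh.structureModule X) M ⟶ M :=
  (CurveTensor.structureTensorIso M).hom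

theorem unitTensor_tmul {M : X.Modules} {U : X.Opens} (r : Γ(X, U)) (t : Γ(M, U)) :
    (unitTensor M).app U (InvX.tmul (show Γ(Coh.structureModule X, U) from r) t) = r • t := by
  let P := DCoh.toP.obj M
  let z := KFlatLib.tm (P := DCoh.toP.obj (Coh.structureModule X)) (Q := P)
    (show Γ(Coh.structureModule X, U) from r) t
  show ((KFlatLib.counitShP X).app M).app U ((DCoh.shP.map (λ_ P).hom).app U
    ((KFlatLib.unitShP _).app (op U) z)) = r • t
  have e1 : (DCoh.shP.map (λ_ P).hom).app U ((KFlatLib.unitShP _).app (op U) z) =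
      (KFlatLib.unitShP P).app (op U) ((λ_ P).hom.app (op U) z) :=
    congr(($(KFlatLib.unitShP_naturality (λ_ P).hom)).app (op U) z).symm
  rw [e1]
  have e2 : (λ_ P).hom.app (op U) z = r • t := by rfl
  rw [e2]
  exact congr(($((PresheafOfModules.sheafificationAdjunction (𝟙 X.ringCatSheaf.obj)).right_triangle_components M)).app (op U) (r • t))

theorem unitTensor_injective (M : X.Modules) (U : X.Opens) : Function.Injective ((unitTensor M).app U) :=
  fun a b h => by
    have h' := congrArg ((CurveTensor.structureTensorIso M).inv.app U) h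
    exact ((congr(($((CurveTensor.structureTensorIso M).hom_inv_id)).app U a)).symm.trans h').trans
      (congr(($((CurveTensor.structureTensorIso M).hom_inv_id)).app U b))

/-- Every section of `O ⊗ M` is a product with one. -/
theorem exists_one_tmul {M : X.Modules} {U : X.Opens} (T : Γ(CohB1.tensorMod (Coh.structureModule X) M, U)) :
    ∃ t : Γ(M, U), T = InvX.tmul (show Γ(Coh.structureModule X, U) from (1 : Γ(X, U))) t :=
  ⟨(unitTensor M).app U T, unitTensor_injective M U (by rw [unitTensor_tmul, one_smul])⟩

end Groth.Agent.LS17.NefH1
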