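import Groth.Agent.LS17.NefH1.Sections
import Groth.Agent.SurfInt.Restrict
import Groth.Agent.TorLib.Basic
import Groth.Agent.ShStabX.Curve
import Groth.Agent.Lib.CurveRR
import Groth.Agent.QCoh.DevissageSum
import Groth.Agent.SheafHomX.Coherent
import Groth.Agent.PicClLib.Basic

/-! A nef invertible module on a proper scheme of dimension at most one with `H¹(O) = 0` is globally
generated and has no `H¹` (Lipman). The field is arbitrary. -/

noncomputable section

set_option linter.style.haveILetI false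
set_option linter.unusedSectionVars false
set_option backward.isDefEq.respectTransparency false
set_option backward.isDefEq.respectTransparency.types false

universe u

open CategoryTheory CategoryTheory.Limits AlgebraicGeometry TopologicalSpace Opposite
open scoped TensorProduct
open Groth.Agent.ParShLib (stk stkMap stkMap_germ)
open Groth.Agent.PnCoh.Finite (mapLin deltaLin)

namespace Groth.Agent.LS17.NefH1

open Groth.Agent

attribute [local instance] QCoh.hasFiniteBiproducts

variable {X : Scheme.{u}}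

section Topology

theorem dim_closure_eq_one [IsNoetherian X] (hdim : topologicalKrullDim X ≤ 1) {η : X}
    (hη : ¬ IsClosed ({η} : Set X)) : topologicalKrullDim ↥(closure ({η} : Set X)) = 1 := by
  refine le_antisymm ((H23.TopDim.dim_le_dim_of_subset (Set.subset_univ _)).trans ?_) ?_
  · exact le_of_eq_of_le (Homeomorph.Set.univ X).isHomeomorph.topologicalKrullDim_eq hdim
  · haveI : CompactSpace X := inferInstance
    obtain ⟨p, hp, hpc⟩ := (isClosed_closure (s := ({η} : Set X))).exists_closed_singleton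
      ⟨η, subset_closure rfl⟩
    let T := ↥(closure ({η} : Set X))
    let A : IrreducibleCloseds T := ⟨{⟨p, hp⟩}, isIrreducible_singleton, by
      have := hpc.preimage (continuous_subtype_val : Continuous (Subtype.val : T → X))
      convert this using 1
      ext z; exact Subtype.ext_iff⟩
    let B : IrreducibleCloseds T := ⟨closure {⟨η, subset_closure rfl⟩},
      isIrreducible_singleton.closure, isClosed_closure⟩
    have hηp : (⟨η, subset_closure rfl⟩ : T) ⤳ ⟨p, hp⟩ := by
      rw [Topology.IsInducing.subtypeVal.specializes_iff.symm]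
      exact specializes_iff_mem_closure.2 hp
    have hlt : A < B := by
      refine lt_of_le_of_ne (fun z hz => ?_) fun e => ?_
      · rw [show z = ⟨p, hp⟩ from hz]
        exact specializes_iff_mem_closure.1 hηp
      · have hmem : (⟨η, subset_closure rfl⟩ : T) ∈ A := e ▸ subset_closure rfl
        have hηp' : η = p := congrArg Subtype.val hmem
        exact hη (hηp' ▸ hpc)
    exact le_of_eq_of_le (by simp) (Order.LTSeries.length_le_krullDim
      ((RelSeries.singleton _ A).snoc B hlt))

theorem eq_of_specializes [IsNoetherian X] (hdim : topologicalKrullDim X ≤ 1) {η : X}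
    (hη : ¬ IsClosed ({η} : Set X)) {y : X} (h : y ⤳ η) : y = η :=
  VarBase.eq_of_specializes_of_dim (T := Set.univ) isClosed_univ (d := 1)
    (le_of_eq_of_le (Homeomorph.Set.univ X).isHomeomorph.topologicalKrullDim_eq (by exact_mod_cast hdim))
    (Set.mem_univ y) h (by exact_mod_cast dim_closure_eq_one hdim hη)

theorem finite_notClosed [IsNoetherian X] (hdim : topologicalKrullDim X ≤ 1) :
    {x : X | ¬ IsClosed ({x} : Set X)}.Finite := by
  have h : ((fun ξ : X => closure ({ξ} : Set X)) '' {x : X | ¬ IsClosed ({x} : Set X)}).Finite := by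
    refine (NoetherianSpace.finite_irreducibleComponents (α := ↥X)).subset ?_
    rintro _ ⟨ξ, hξ, rfl⟩
    refine ⟨isIrreducible_singleton.closure, fun Z hZ hle => ?_⟩
    obtain ⟨y, hy⟩ := QuasiSober.sober hZ.closure isClosed_closure
    have he : y = ξ := eq_of_specializes hdim hξ (hy.specializes (subset_closure (hle (subset_closure rfl))))
    rw [← he]
    show Z ⊆ closure ({y} : Set X)
    rw [hy.def]
    exact subset_closure
  exact h.of_finite_image fun a _ b _ e => by
    have ha : a ⤳ b := specializes_iff_mem_closure.2 ((e.ge : _) (subset_closure rfl))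
    have hb : b ⤳ a := specializes_iff_mem_closure.2 ((e.le : _) (subset_closure rfl))
    exact (ha.antisymm hb).eq

end Topology

section Basic

theorem isCoh_fin_sum {M : X.Modules} (hM : Coh.IsCoh M) (N : ℕ) :
    Coh.IsCoh (⨁ fun _ : Fin N => M) :=
  SheafHomX.isCoh_of_iso
    (biproduct.whiskerEquiv (f := fun _ : ULift.{u} (Fin N) => M) (g := fun _ : Fin N => M) Equiv.ulift
      fun _ => Iso.refl M)
    (QCoh.isCoh_biproduct (fun _ : ULift.{u} (Fin N) => M) fun _ => hM)

theorem hom_eq_zero_of_stk {M N : X.Modules} (f : M ⟶ N) (h : ∀ x (a : stk M x), stkMap f x a = 0) :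
    f = 0 := by
  have hz : IsZero (Abelian.image f) := CurveCohLib.isZero_of_subsingleton_stalks fun x =>
    subsingleton_of_forall_eq 0 fun t => by
      obtain ⟨a, rfl⟩ := stk_surjective (Abelian.factorThruImage f) x t
      refine stk_injective (Abelian.image.ι f) x ?_
      rw [← stk_comp, Abelian.image.fac, h, map_zero]
  rw [← Abelian.image.fac f, hz.eq_of_tgt (Abelian.factorThruImage f) 0, zero_comp]

theorem stk_surjective_of_cokernel {M N : X.Modules} (f : M ⟶ N) (x : X)
    (h : Subsingleton (stk (cokernel f) x)) : Function.Surjective (stkMap f x) := by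
  have hx : (ShortComplex.mk f (cokernel.π f) (cokernel.condition f)).Exact :=
    ShortComplex.exact_of_g_is_cokernel _ (cokernelIsCokernel f)
  have hm := (hx.map (DerSch.stalkFunctor X x))
  intro y
  exact (ShortComplex.moduleCat_exact_iff _).1 hm y (h.elim _ _)

variable (k : Type u) [Field k] [X.Over (Spec (CommRingCat.of k))]
  [IsProper (X ↘ Spec (CommRingCat.of k))]

include k in
theorem surjective_mapLin_H1 (hdim : topologicalKrullDim X ≤ 1) {A B : X.Modules} (f : A ⟶ B)
    (hA : Coh.IsCoh A) (hB : Coh.IsCoh B) (h : Subsingleton (Coh.HH X (cokernel f) 1)) :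
    Function.Surjective (mapLin k f 1) := by
  intro y
  let π := cokernel.π f
  have h1 : y ∈ LinearMap.ker (mapLin k π 1) := LinearMap.mem_ker.2 (h.elim _ _)
  rw [CurveCohLib.ker_mapLin_g k (CurveH1.shortExact_kernel π) 1] at h1
  obtain ⟨z, rfl⟩ := h1
  haveI := (ShortComplex.exact_of_g_is_cokernel (ShortComplex.mk f π (cokernel.condition f))
    (cokernelIsCokernel f)).epi_kernelLift
  let g := kernel.lift π f (cokernel.condition f)
  have h2 : z ∈ LinearMap.ker (deltaLin k (CurveH1.shortExact_kernel g) 1) :=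
    LinearMap.mem_ker.2 ((CurveH1.subsingleton_HH_two k hdim _ 0).elim _ _)
  rw [CurveCohLib.ker_deltaLin k (CurveH1.shortExact_kernel g) 1] at h2
  obtain ⟨w, rfl⟩ := h2
  refine ⟨w, ?_⟩
  rw [FFun.mapLin_comp, kernel.lift_ι]

theorem euler_eq (hdim : topologicalKrullDim X ≤ 1) (M : X.Modules) :
    Curv2.euler k X M = (Module.finrank k (Coh.HH X M 0) : ℤ) - Module.finrank k (Coh.HH X M 1) := by
  rw [CurveCohLib.euler_eq_sum (k := k) (N := 2) fun i hi => by
    obtain ⟨j, rfl⟩ : ∃ j, i = j + 2 := ⟨i - 2, by omega⟩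
    exact CurveH1.subsingleton_HH_two k hdim M j]
  simp [Finset.sum_range_succ]
  ring

theorem finrank_HH_congr {M N : X.Modules} (e : M ≅ N) (n : ℕ) :
    Module.finrank k (Coh.HH X M n) = Module.finrank k (Coh.HH X N n) :=
  (LinearEquiv.ofLinear (mapLin k e.hom n) (mapLin k e.inv n)
    (LinearMap.ext fun x => by
      rw [LinearMap.comp_apply, FFun.mapLin_comp, e.inv_hom_id, CurveDuality.mapLin_id]; rfl)
    (LinearMap.ext fun x => by
      rw [LinearMap.comp_apply, FFun.mapLin_comp, e.hom_inv_id, CurveDuality.mapLin_id]; rfl)).finrank_eq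

end Basic

section Ideals

variable [IsNoetherian X] (hdim : topologicalKrullDim X ≤ 1)

/-- The non-closed points. -/
def bigPts : Finset X := (finite_notClosed hdim).toFinset

theorem mem_bigPts {x : X} : x ∈ bigPts hdim ↔ ¬ IsClosed ({x} : Set X) := by
  simp [bigPts]

/-- The product of powers of the ideals of the one-dimensional components. -/
def powIdeal (n : X → ℕ) : X.IdealSheafData := ∏ ξ ∈ bigPts hdim, VarBase.clIdeal ξ ^ n ξ

open scoped Classical in
theorem stalkIdeal_clIdeal {ξ η : X} (hξ : ξ ∈ bigPts hdim) (hη : η ∈ bigPts hdim) :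
    IntMult.stalkIdeal (VarBase.clIdeal ξ) η =
      if ξ = η then IsLocalRing.maximalIdeal (X.presheaf.stalk η) else ⊤ := by
  split_ifs with h
  · subst h
    exact stalkIdeal_clIdeal_self fun y hy => eq_of_specializes hdim ((mem_bigPts hdim).1 hξ) hy
  · refine stalkIdeal_eq_top fun hmem => h ?_
    have hc : η ∈ closure ({ξ} : Set X) := (support_clIdeal ξ).le hmem
    exact eq_of_specializes hdim ((mem_bigPts hdim).1 hη) (specializes_iff_mem_closure.2 hc)

theorem stalkIdeal_powIdeal (n : X → ℕ) {η : X} (hη : η ∈ bigPts hdim) :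
    IntMult.stalkIdeal (powIdeal hdim n) η =
      IsLocalRing.maximalIdeal (X.presheaf.stalk η) ^ n η := by
  classical
  have key : ∀ T : Finset X, T ⊆ bigPts hdim →
      IntMult.stalkIdeal (∏ ξ ∈ T, VarBase.clIdeal ξ ^ n ξ) η =
        if η ∈ T then IsLocalRing.maximalIdeal (X.presheaf.stalk η) ^ n η else ⊤ := by
    intro T
    induction T using Finset.induction_on with
    | empty => intro _; simp [stalkIdeal_one, -Scheme.IdealSheafData.one_eq_top]
    | insert ξ T hξT ih =>
      intro hT
      rw [Finset.prod_insert hξT, stalkIdeal_mul, ih fun z hz => hT (Finset.mem_insert_of_mem hz),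
        stalkIdeal_pow, stalkIdeal_clIdeal hdim (hT (Finset.mem_insert_self _ _)) hη]
      by_cases he : ξ = η
      · subst he
        rw [if_pos rfl, if_neg hξT, if_pos (Finset.mem_insert_self _ _), Ideal.mul_top]
      · rw [if_neg he, Ideal.top_pow, Ideal.top_mul]
        by_cases hT' : η ∈ T
        · rw [if_pos hT', if_pos (Finset.mem_insert_of_mem hT')]
        · rw [if_neg hT', if_neg (by simp [hT', Ne.symm he])]
  rw [powIdeal, key _ (Finset.Subset.refl _), if_pos hη]

theorem powIdeal_le (n : X → ℕ) {η : X} (hη : η ∈ bigPts hdim) (hn : n η ≠ 0) (x : X) :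
    IntMult.stalkIdeal (powIdeal hdim n) x ≤ IntMult.stalkIdeal (VarBase.clIdeal η) x := by
  classical
  rw [powIdeal, ← Finset.mul_prod_erase _ _ hη, stalkIdeal_mul, stalkIdeal_pow]
  exact Ideal.mul_le_left.trans (Ideal.pow_le_self hn)

end Ideals

section Field

variable (k : Type u) [Field k] [X.Over (Spec (CommRingCat.of k))]
  [IsProper (X ↘ Spec (CommRingCat.of k))] (hdim : topologicalKrullDim X ≤ 1)

/-- The degree condition, on the ideals of points. -/
def NefCond (L : X.Modules) : Prop :=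
  ∀ J : X.IdealSheafData, IsIntegral J.subscheme → topologicalKrullDim J.subscheme = 1 →
    0 ≤ @Curv2.deg k _ J.subscheme ⟨J.subschemeι ≫ (X ↘ (Spec (CommRingCat.of k)))⟩
      ((Scheme.Modules.pullback J.subschemeι).obj L) 1

omit [X.Over (Spec (CommRingCat.of k))] [IsProper (X ↘ Spec (CommRingCat.of k))] in
/-- A nonzero section of an invertible module on an integral closed subscheme is nonzero at its generic point. -/
theorem eq_zero_of_stk_generic {L : X.Modules} (hL : PicF.IsInvertible L) (η : X)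
    (ψ : Coh.structureModule X ⟶ (AmpleVan.tw L).obj (ClSub.quotMod (VarBase.clIdeal η)))
    (h : stkMap ψ η (one η) = 0) : ψ = 0 := by
  haveI := SurfInt.isIntegral_clIdeal η
  let ι := (VarBase.clIdeal η).subschemeι
  let M := (Scheme.Modules.pullback ι).obj L
  have hM : PicF.IsInvertible M := PicClLib.isInvertible_pullback ι hL
  let e : (AmpleVan.tw L).obj (ClSub.quotMod (VarBase.clIdeal η)) ≅ (Coh.push ι).obj M :=
    SurfInt.pushTensorIso ι L
  suffices h0 : ψ ≫ e.hom = 0 by
    rw [← cancel_mono e.hom, h0, zero_comp]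
  refine RegEpi.hom_eq_of_one_eq _ _ ?_
  let s : Γ(M, ⊤) := (show Γ((Coh.push ι).obj M, ⊤) from RegEpi.one (ψ ≫ e.hom))
  have hg : ((Coh.push ι).obj M).presheaf.germ ⊤ η trivial (RegEpi.one (ψ ≫ e.hom)) = 0 := by
    refine (stkMap_germ (ψ ≫ e.hom) (U := (⊤ : X.Opens)) trivial
      (show Γ(Coh.structureModule X, ⊤) from (1 : Γ(X, ⊤)))).symm.trans ?_
    show stkMap (ψ ≫ e.hom) η (one η) = 0
    rw [stk_comp, h, map_zero]
  obtain ⟨V, hηV, i, j, he⟩ := ((Coh.push ι).obj M).presheaf.germ_eq (U := (⊤ : X.Opens)) (V := (⊤ : X.Opens)) η trivial trivial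
    (RegEpi.one (ψ ≫ e.hom)) 0 (hg.trans (map_zero _).symm)
  have hV : genericPoint ↥(VarBase.clIdeal η).subscheme ∈ ι ⁻¹ᵁ V := by
    show ι (genericPoint ↥(VarBase.clIdeal η).subscheme) ∈ V
    rw [SurfInt.clIdeal_genericPoint]
    exact hηV
  have hs : s = 0 := by
    refine TorLib.eq_zero_of_germ_genericPoint (QCoh.isQCoh_of_isFinLocFree
      (H23.PullPush.isFinLocFree_of_isInvertible hM))
      (ShStabX.isTorsionFree_of_locFree (InvEnd.isFinLocFreeOfRank_one hM))
      (U := (⊤ : (VarBase.clIdeal η).subscheme.Opens)) trivial s ?_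
    refine (M.presheaf.germ_res_apply ((Opens.map ι.base).map i) _ hV s).symm.trans ?_
    refine Eq.trans (congrArg _ ?_) (map_zero _)
    exact he.trans (map_zero _)
  exact (show RegEpi.one (ψ ≫ e.hom) = 0 from hs).trans (by rfl)

variable {k}

/-- Generating sections of `L ⊗ O/I` at the points of positive multiplicity. -/
def Good [IsNoetherian X] (L : X.Modules) (n : X → ℕ) : Prop :=
  ∀ η ∈ bigPts hdim, n η ≠ 0 →
    ∃ φ : Coh.structureModule X ⟶ (AmpleVan.tw L).obj (ClSub.quotMod (powIdeal hdim n)),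
      ∀ y : stk ((AmpleVan.tw L).obj (ClSub.quotMod (powIdeal hdim n))) η,
        ∃ c : X.presheaf.stalk η, y = c • stkMap φ η (one η)

variable [IsNoetherian X]

include k in
theorem good_step (h1 : Subsingleton (Coh.HH X (Coh.structureModule X) 1))
    {L : X.Modules} (hL : PicF.IsInvertible L) (hnef : NefCond k L) (n : X → ℕ) {η : X}
    (hη : η ∈ bigPts hdim) (hnη : n η ≠ 0) (n' : X → ℕ) (hn' : n' η = n η - 1)
    (hne : ∀ ζ, ζ ≠ η → n' ζ = n ζ) (ih : Good hdim L n') :
    ∃ φ : Coh.structureModule X ⟶ (AmpleVan.tw L).obj (ClSub.quotMod (powIdeal hdim n)),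
      ∀ y : stk ((AmpleVan.tw L).obj (ClSub.quotMod (powIdeal hdim n))) η,
        ∃ c : X.presheaf.stalk η, y = c • stkMap φ η (one η) := by
  classical
  haveI := AmpleVan.isEquivalence_tw hL
  haveI : (AmpleVan.tw L).Additive := Functor.additive_of_preserves_binary_products _
  have hLc := AmpleVan.isCoh_invertible hL
  let I := powIdeal hdim n
  let I' := powIdeal hdim n'
  let J := VarBase.clIdeal η
  have hQ : Coh.IsCoh (ClSub.quotMod I) := ParShLib.isCoh_quotMod I
  have hQ' : Coh.IsCoh (ClSub.quotMod I') := ParShLib.isCoh_quotMod I'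
  have hQJ : Coh.IsCoh (ClSub.quotMod J) := ParShLib.isCoh_quotMod J
  haveI := CurvePoint.epi_toSubscheme I
  haveI := CurvePoint.epi_toSubscheme J
  -- the quotient map
  have hz : ClSub.idealModι I ≫ ClSub.toSubscheme J = 0 := hom_eq_zero_of_stk _ fun x a => by
    have h0 : stkMap (ClSub.toSubscheme I) x (stkMap (ClSub.idealModι I) x a) = 0 := by
      rw [← stk_comp, show ClSub.idealModι I ≫ ClSub.toSubscheme I = 0 from kernel.condition _, stk_zero]
    obtain ⟨c, hc⟩ := exists_smul_one x (stkMap (ClSub.idealModι I) x a)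
    rw [hc, map_smul] at h0
    rw [stk_comp, hc, map_smul]
    exact smul_gen_eq_zero.2 (powIdeal_le hdim n hη hnη x (smul_gen_eq_zero.1 h0))
  haveI : Epi (SurfInt.idealSeq I).g := (SurfInt.idealSeq_shortExact I).epi_g
  let q : ClSub.quotMod I ⟶ ClSub.quotMod J :=
    (SurfInt.idealSeq_shortExact I).exact.desc (ClSub.toSubscheme J) hz
  have hq : ClSub.toSubscheme I ≫ q = ClSub.toSubscheme J :=
    (SurfInt.idealSeq_shortExact I).exact.g_desc (ClSub.toSubscheme J) hz
  haveI : Epi q := epi_of_epi_fac hq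
  have hqgen : ∀ x, stkMap q x (gen I x) = gen J x := fun x => by
    rw [gen, ← stk_comp, hq]
    rfl
  let N := kernel q
  have hN : Coh.IsCoh N := QCoh.isCoh_kernel hQ hQJ q
  have hS := CurveH1.shortExact_kernel q
  -- the multiplicities kill the kernel
  have hkill : ∀ ζ ∈ bigPts hdim, ∀ c ∈ IntMult.stalkIdeal I' ζ, ∀ m : stk N ζ, c • m = 0 := by
    intro ζ hζ c hc m
    refine stk_injective (kernel.ι q) ζ ?_
    rw [map_smul, map_zero]
    obtain ⟨a, ha⟩ := exists_smul_gen I ζ (stkMap (kernel.ι q) ζ m)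
    rw [ha, smul_smul, smul_gen_eq_zero, stalkIdeal_powIdeal hdim n hζ]
    rw [stalkIdeal_powIdeal hdim n' hζ] at hc
    by_cases he : ζ = η
    · subst he
      have ha' : a ∈ IntMult.stalkIdeal J ζ := by
        rw [← smul_gen_eq_zero, ← hqgen, ← map_smul, ← ha, ← stk_comp, kernel.condition, stk_zero]
      rw [stalkIdeal_clIdeal hdim hη hη, if_pos rfl] at ha'
      rw [hn'] at hc
      rw [show n ζ = (n ζ - 1) + 1 by omega, pow_succ]
      exact Ideal.mul_mem_mul hc ha'
    · rw [hne ζ he] at hc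
      exact Ideal.mul_mem_right _ _ hc
  -- the matrix of sections
  let S' := (bigPts hdim).filter fun ζ => n' ζ ≠ 0
  choose φ hφ using fun ζ : {ζ // ζ ∈ S'} =>
    ih ζ.1 (Finset.mem_filter.1 ζ.2).1 (Finset.mem_filter.1 ζ.2).2
  let e := Fintype.equivFin {ζ // ζ ∈ S'}
  let Q' := (AmpleVan.tw L).obj (ClSub.quotMod I')
  have hQ'c : Coh.IsCoh Q' := AmpleVan.isCoh_tensor hQ' hLc
  obtain ⟨m, hm, Φ, hΦ⟩ := exists_matrix_map k S' (Q := Q') (fun j => φ (e.symm j)) fun ζ hζ =>
    ⟨e ⟨ζ, hζ⟩, by
      rw [Equiv.symm_apply_apply]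
      exact hφ ⟨ζ, hζ⟩⟩
  let G := AmpleVan.tw N
  haveI : G.Additive := Functor.additive_of_preserves_binary_products _
  let fO := fun _ : Fin m => G.obj (Coh.structureModule X)
  let fQ := fun _ : Fin m => G.obj Q'
  let Ψ : (⨁ fO) ⟶ ⨁ fQ := (G.mapBiproduct fun _ : Fin m => Coh.structureModule X).inv ≫ G.map Φ ≫
    (G.mapBiproduct fun _ : Fin m => Q').hom
  have hGO : Coh.IsCoh (G.obj (Coh.structureModule X)) := AmpleVan.isCoh_tensor QCoh.isCoh_structureModule' hN
  have hGQ : Coh.IsCoh (G.obj Q') := AmpleVan.isCoh_tensor hQ'c hN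
  have hcok : Subsingleton (Coh.HH X (cokernel Ψ) 1) := by
    refine subsingleton_H1_of_finite_support k
      (QCoh.isCoh_cokernel (isCoh_fin_sum hGO m).1 (isCoh_fin_sum hGQ m) Ψ) fun ζ hζ => ?_
    refine subsingleton_stk_cokernel Ψ ζ fun y => ?_
    obtain ⟨y', hy'⟩ := stk_surjective (G.mapBiproduct fun _ : Fin m => Q').hom ζ y
    suffices hsur : Function.Surjective (stkMap (G.map Φ) ζ) by
      obtain ⟨z, hz⟩ := hsur y'
      obtain ⟨w, hw⟩ := stk_surjective (G.mapBiproduct fun _ : Fin m => Coh.structureModule X).inv ζ z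
      exact ⟨w, (stk_comp _ _ ζ w).trans ((congrArg _ hw).trans ((stk_comp _ _ ζ z).trans ((congrArg _ hz).trans hy')))⟩
    have hζS : ζ ∈ bigPts hdim := (mem_bigPts hdim).2 hζ
    by_cases hn0 : n' ζ = 0
    · haveI : Subsingleton (stk N ζ) := subsingleton_of_forall_eq 0 fun z => by
        have h := hkill ζ hζS 1 (by rw [stalkIdeal_powIdeal hdim n' hζS, hn0, pow_zero, Ideal.one_eq_top]; exact Submodule.mem_top) z
        rwa [one_smul] at h
      haveI := subsingleton_stk_tw (M := ⨁ fun _ : Fin m => Q') (P := N) (x := ζ) (Or.inr inferInstance)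
      exact fun z => ⟨0, Subsingleton.elim _ _⟩
    · have hs := LinearMap.rTensor_surjective (stk N ζ)
        (stk_surjective_of_cokernel Φ ζ (hΦ ζ (Finset.mem_filter.2 ⟨hζS, hn0⟩)))
      intro z
      obtain ⟨t, ht⟩ := hs (stalkTw N _ ζ z)
      refine ⟨(stalkTw N _ ζ).symm t, (stalkTw N _ ζ).injective ?_⟩
      rw [stalkTw_naturality, LinearEquiv.apply_symm_apply, ht]
  have hle1 : Module.finrank k (Coh.HH X (G.obj Q') 1) ≤ Module.finrank k (Coh.HH X N 1) := by
    haveI := CurveCohLib.finite_HH (k := k) (isCoh_fin_sum hGO m) 1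
    haveI := CurveCohLib.finite_HH (k := k) hN 1
    have h := LinearMap.finrank_le_finrank_of_surjective (f := mapLin k Ψ 1)
    have hs := surjective_mapLin_H1 k hdim Ψ (isCoh_fin_sum hGO m) (isCoh_fin_sum hGQ m) hcok
    have h' : Module.finrank k (Coh.HH X (⨁ fQ) 1) ≤ Module.finrank k (Coh.HH X (⨁ fO) 1) := by
      have := LinearMap.finrank_range_le (mapLin k Ψ 1)
      rwa [LinearMap.range_eq_top.2 hs, finrank_top] at this
    haveI := CurveCohLib.finite_HH (k := k) hGO 1
    haveI := CurveCohLib.finite_HH (k := k) hGQ 1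
    rw [finrank_sum_copies, finrank_sum_copies, Module.finrank_pi_fintype, Module.finrank_pi_fintype,
      Finset.sum_const, Finset.sum_const, Finset.card_univ, Fintype.card_fin, smul_eq_mul, smul_eq_mul,
      show Module.finrank k (Coh.HH X (G.obj (Coh.structureModule X)) 1) =
        Module.finrank k (Coh.HH X N 1) from finrank_HH_congr k (CurveTensor.structureTensorIso N) 1] at h'
    exact Nat.le_of_mul_le_mul_left h' hm
  -- comparison with `L ⊗ N`
  let NL := (AmpleVan.tw L).obj N
  have hNL : Coh.IsCoh NL := AmpleVan.isCoh_tensor hN hLc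
  let eρ : NL ≅ G.obj ((AmpleVan.tw L).obj (Coh.structureModule X)) :=
    CurveTensor.commIso N L ≪≫ G.mapIso (CurveTensor.structureTensorIso L).symm
  haveI := CurvePoint.epi_toSubscheme I'
  let ρ : NL ⟶ G.obj Q' := eρ.hom ≫ G.map ((AmpleVan.tw L).map (ClSub.toSubscheme I'))
  have hle2 : Module.finrank k (Coh.HH X NL 1) ≤ Module.finrank k (Coh.HH X (G.obj Q') 1) := by
    haveI : Epi ρ := inferInstance
    haveI := CurveCohLib.finite_HH (k := k) hGQ 1
    haveI hk1 : Subsingleton (Coh.HH X (kernel ρ) 1) := by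
      refine subsingleton_H1_of_finite_support k (QCoh.isCoh_kernel hNL hGQ ρ) fun ζ hζ => ?_
      refine subsingleton_stk_kernel ρ ζ fun a b hab => ?_
      rw [stk_comp, stk_comp] at hab
      exact stk_injective eρ.hom ζ
        (injective_twist_twist hL I' N ζ (hkill ζ ((mem_bigPts hdim).2 hζ)) hab)
    refine LinearMap.finrank_le_finrank_of_injective (f := mapLin k ρ 1) ?_
    refine (injective_iff_map_eq_zero _).2 fun z hz => ?_
    have hz' : z ∈ LinearMap.ker (mapLin k ρ 1) := hz
    rw [CurveCohLib.ker_mapLin_g k (CurveH1.shortExact_kernel ρ) 1] at hz'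
    obtain ⟨w, rfl⟩ := hz'
    rw [Subsingleton.elim w 0, map_zero]
  -- the count on the bottom component
  have hgenJ : gen J η ≠ 0 := fun h => by
    have h' := smul_gen_eq_zero.1 (show (1 : X.presheaf.stalk η) • gen J η = 0 by rw [h, smul_zero])
    rw [stalkIdeal_clIdeal hdim hη hη, if_pos rfl] at h'
    exact (IsLocalRing.maximalIdeal.isMaximal _).ne_top ((Ideal.eq_top_iff_one _).2 h')
  have hN1 : Module.finrank k (Coh.HH X N 1) + 1 ≤ Module.finrank k (Coh.HH X (ClSub.quotMod J) 0) := by
    haveI := CurveCohLib.finite_HH (k := k) hQJ 0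
    haveI := CurveCohLib.finite_HH (k := k) hN 1
    haveI hQ1 : Subsingleton (Coh.HH X (ClSub.quotMod I) 1) :=
      CurveH1.subsingleton_H1_of_epi k hdim (ClSub.toSubscheme I) h1
    have hsurj : LinearMap.range (deltaLin k hS 0) = ⊤ := by
      rw [← CurveCohLib.ker_mapLin_f_succ k hS 0, eq_top_iff]
      exact fun z _ => LinearMap.mem_ker.2 (hQ1.elim _ _)
    have hker : LinearMap.ker (deltaLin k hS 0) ≠ ⊥ := by
      rw [CurveCohLib.ker_deltaLin k hS 0]
      intro h0
      have h2 : mapLin k q 0 (mapLin k (ClSub.toSubscheme I) 0 (RegEpi.oneClass X)) = 0 :=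
        (Submodule.mem_bot k).1 (h0.le ⟨_, rfl⟩)
      rw [FFun.mapLin_comp, hq] at h2
      have h3 : ClSub.toSubscheme J = 0 := (RegEpi.evalOneLin_bijective k _).1
        ((show RegEpi.evalOneLin k _ (ClSub.toSubscheme J) = 0 from h2).trans (map_zero _).symm)
      exact hgenJ (by rw [gen, h3, stk_zero])
    have hsum := LinearMap.finrank_range_add_finrank_ker (deltaLin k hS 0)
    rw [hsurj, finrank_top] at hsum
    have hpos : 1 ≤ Module.finrank k (LinearMap.ker (deltaLin k hS 0)) := Submodule.one_le_finrank_iff.2 hker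
    simp only [zero_add] at hsum
    exact (Nat.add_le_add_left hpos _).trans hsum.le
  let QJL := (AmpleVan.tw L).obj (ClSub.quotMod J)
  have hQJL : Coh.IsCoh QJL := AmpleVan.isCoh_tensor hQJ hLc
  have hχ : Module.finrank k (Coh.HH X (ClSub.quotMod J) 0) ≤ Module.finrank k (Coh.HH X QJL 0) := by
    have hint : IsIntegral J.subscheme := SurfInt.isIntegral_clIdeal η
    have hdJ : topologicalKrullDim J.subscheme = 1 := by
      rw [← SurfInt.dim_range' J.subschemeι, VarBase.range_clIdeal]
      exact dim_closure_eq_one hdim ((mem_bigPts hdim).1 hη)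
    letI : J.subscheme.Over (Spec (CommRingCat.of k)) := ⟨J.subschemeι ≫ (X ↘ Spec (CommRingCat.of k))⟩
    have hd : 0 ≤ SurfInt.curveDeg k J L :=
      (hnef J hint hdJ).trans_eq (SurfInt.curveDeg_eq_deg k J hLc.1 rfl).symm
    unfold SurfInt.curveDeg at hd
    have e1 := euler_eq k hdim (ClSub.quotMod J)
    have e2 : Curv2.euler k X (CohB1.tensorMod (ClSub.quotMod J) L) = _ :=
      euler_eq k hdim QJL
    haveI := CurveH1.subsingleton_H1_of_epi k hdim (ClSub.toSubscheme J) h1
    rw [Module.finrank_zero_of_subsingleton (M := Coh.HH X (ClSub.quotMod J) 1)] at e1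
    omega
  have hSL : ((ShortComplex.mk (kernel.ι q) q (kernel.condition q)).map (AmpleVan.tw L)).ShortExact :=
    hS.map_of_exact _
  have hex : ∃ ψ : Coh.structureModule X ⟶ (AmpleVan.tw L).obj (ClSub.quotMod I),
      ψ ≫ (AmpleVan.tw L).map q ≠ 0 := by
    haveI := CurveCohLib.finite_HH (k := k) hQJL 0
    haveI := CurveCohLib.finite_HH (k := k) hNL 1
    have hker : LinearMap.ker (deltaLin k hSL 0) ≠ ⊥ := by
      haveI : Module.Finite k (Coh.HH X
          ((ShortComplex.mk (kernel.ι q) q (kernel.condition q)).map (AmpleVan.tw L)).X₃ 0) :=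
        CurveCohLib.finite_HH (k := k) hQJL 0
      haveI : Module.Finite k (Coh.HH X
          ((ShortComplex.mk (kernel.ι q) q (kernel.condition q)).map (AmpleVan.tw L)).X₁ (0 + 1)) :=
        CurveCohLib.finite_HH (k := k) hNL 1
      refine LinearMap.ker_ne_bot_of_finrank_lt (f := deltaLin k hSL 0) ?_
      show Module.finrank k (Coh.HH X NL 1) < Module.finrank k (Coh.HH X QJL 0)
      omega
    obtain ⟨z, hz, hz0⟩ := Submodule.exists_mem_ne_zero_of_ne_bot hker
    rw [CurveCohLib.ker_deltaLin k hSL 0] at hz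
    obtain ⟨y, rfl⟩ := hz
    obtain ⟨ψ, rfl⟩ := (RegEpi.evalOneLin_bijective k _).2 y
    refine ⟨ψ, fun h0 => hz0 ?_⟩
    show mapLin k ((AmpleVan.tw L).map q) 0 (mapLin k ψ 0 (RegEpi.oneClass X)) = 0
    exact (FFun.mapLin_comp ψ ((AmpleVan.tw L).map q) 0 _).trans (by rw [h0, CurveDuality.mapLin_zero])
  obtain ⟨ψ, hψ⟩ := hex
  refine ⟨ψ, exists_smul_twist hL I η _ fun hmem => hψ ?_⟩
  refine eq_zero_of_stk_generic hL η _ ?_
  rw [stk_comp]
  refine Submodule.smul_induction_on hmem (fun c hc y _ => ?_) fun a b ha hb => by rw [map_add, ha, hb, add_zero]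
  obtain ⟨l, hl⟩ := exists_gen_stk hL η
  rw [map_smul]
  apply (stalkTw L (ClSub.quotMod J) η).injective
  rw [map_smul, map_zero]
  induction stalkTw L (ClSub.quotMod J) η (stkMap ((AmpleVan.tw L).map q) η y) using
    TensorProduct.induction_on with
  | zero => rw [smul_zero]
  | add a b ha hb => rw [smul_add, ha, hb, add_zero]
  | tmul u v =>
    obtain ⟨d, rfl⟩ := exists_smul_gen J η u
    rw [TensorProduct.smul_tmul', smul_smul, smul_gen_eq_zero.2 (by
      rw [stalkIdeal_clIdeal hdim hη hη, if_pos rfl]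
      exact Ideal.mul_mem_right _ _ hc), TensorProduct.zero_tmul]

include k in
theorem good (h1 : Subsingleton (Coh.HH X (Coh.structureModule X) 1))
    {L : X.Modules} (hL : PicF.IsInvertible L) (hnef : NefCond k L) (n : X → ℕ) : Good hdim L n := by
  classical
  suffices h : ∀ s : ℕ, ∀ n : X → ℕ, ∑ ξ ∈ bigPts hdim, n ξ = s → Good hdim L n from h _ n rfl
  intro s
  induction s using Nat.strong_induction_on with
  | _ s ih =>
    intro n hn η hη hnη
    refine good_step hdim h1 hL hnef n hη hnη (Function.update n η (n η - 1)) (Function.update_self ..)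
      (fun ζ hζ => Function.update_of_ne hζ ..) (ih _ ?_ _ rfl)
    rw [← hn]
    refine Finset.sum_lt_sum (fun ζ _ => ?_) ⟨η, hη, ?_⟩
    · rcases eq_or_ne ζ η with rfl | hζ
      · rw [Function.update_self]; omega
      · rw [Function.update_of_ne hζ]
    · rw [Function.update_self]; omega

include k hdim in
/-- Lipman's theorem over a field. -/
theorem gg_and_h1 (h1 : Subsingleton (Coh.HH X (Coh.structureModule X) 1))
    {L : X.Modules} (hL : PicF.IsInvertible L) (hnef : NefCond k L) :
    Subsingleton (Coh.HH X L 1) ∧ Curv2.IsGloballyGenerated L := by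
  classical
  haveI := AmpleVan.isEquivalence_tw hL
  haveI : (AmpleVan.tw L).Additive := Functor.additive_of_preserves_binary_products _
  have hLc := AmpleVan.isCoh_invertible hL
  let M : X → ℕ := fun x =>
    if h : ∃ n, IsLocalRing.maximalIdeal (X.presheaf.stalk x) ^ n = ⊥ then Nat.find h + 1 else 1
  have hM0 : ∀ x, M x ≠ 0 := fun x => by simp only [M]; split_ifs <;> omega
  let I := powIdeal hdim M
  haveI := CurvePoint.epi_toSubscheme I
  have hI : ∀ ζ ∈ bigPts hdim, Function.Injective (stkMap (ClSub.toSubscheme I) ζ) := by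
    intro ζ hζ
    refine (injective_iff_map_eq_zero _).2 fun a ha => ?_
    obtain ⟨c, rfl⟩ := exists_smul_one ζ a
    rw [map_smul] at ha
    have hc := smul_gen_eq_zero.1 ha
    have h := exists_pow_maximalIdeal_eq_bot
      (fun y hy => eq_of_specializes hdim ((mem_bigPts hdim).1 hζ) hy)
    have hb : IsLocalRing.maximalIdeal (X.presheaf.stalk ζ) ^ M ζ = ⊥ := by
      simp only [M, dif_pos h, pow_succ, Nat.find_spec h, Ideal.bot_mul]
    rw [stalkIdeal_powIdeal hdim M hζ, hb, Submodule.mem_bot] at hc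
    rw [hc, zero_smul]
  let K := kernel (ClSub.toSubscheme I)
  have hK : Coh.IsCoh K := QCoh.isCoh_kernel QCoh.isCoh_structureModule' (ParShLib.isCoh_quotMod I) _
  have hS := (CurveH1.shortExact_kernel (ClSub.toSubscheme I)).map_of_exact (AmpleVan.tw L)
  have hKL : ∀ ζ : X, ¬ IsClosed ({ζ} : Set X) → Subsingleton (stk ((AmpleVan.tw L).obj K) ζ) :=
    fun ζ hζ => subsingleton_stk_tw (Or.inl (subsingleton_stk_kernel _ ζ (hI ζ ((mem_bigPts hdim).2 hζ))))
  have hK1 : Subsingleton (Coh.HH X ((AmpleVan.tw L).obj K) 1) :=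
    subsingleton_H1_of_finite_support k (AmpleVan.isCoh_tensor hK hLc) hKL
  choose φ hφ using fun η : {η // η ∈ bigPts hdim} => good hdim h1 hL hnef M η.1 η.2 (hM0 η.1)
  have hlift : ∀ η : {η // η ∈ bigPts hdim}, ∃ σ : Coh.structureModule X ⟶ L,
      ∀ y : stk L η.1, ∃ c : X.presheaf.stalk η.1, y = c • stkMap σ η.1 (one η.1) := fun η => by
    obtain ⟨t, ht⟩ := QCoh.app_top_surjective_of_HH_one hS hK1 (RegEpi.one (φ η))
    let g := (AmpleVan.tw L).map (ClSub.toSubscheme I)
    have hσ : InvX.ofSect t ≫ g = φ η := RegEpi.hom_eq_of_one_eq _ _ (by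
      rw [← ht]
      exact congrArg (g.app ⊤) (RegEpi.one_ofSect t))
    have hinj : Function.Injective (stkMap g η.1) := by
      refine (injective_iff_map_eq_zero _).2 fun a ha => ?_
      have hm := (ShortComplex.moduleCat_exact_iff _).1 (hS.exact.map (DerSch.stalkFunctor X η.1)) a ha
      obtain ⟨b, rfl⟩ := hm
      haveI := hKL η.1 ((mem_bigPts hdim).1 η.2)
      rw [show b = 0 from (inferInstance : Subsingleton (stk ((AmpleVan.tw L).obj K) η.1)).elim _ _, map_zero]
    let e := CurveTensor.structureTensorIso L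
    refine ⟨InvX.ofSect t ≫ e.hom, fun y => ?_⟩
    obtain ⟨z, rfl⟩ := stk_surjective e.hom η.1 y
    obtain ⟨c, hc⟩ := hφ η (stkMap g η.1 z)
    refine ⟨c, ?_⟩
    rw [← hσ, stk_comp, ← map_smul] at hc
    rw [stk_comp, hinj hc, map_smul]
    rfl
  choose σ hσ using hlift
  let e := Fintype.equivFin {η // η ∈ bigPts hdim}
  let r := Fintype.card {η // η ∈ bigPts hdim}
  let ψ : (⨁ fun _ : Fin r => Coh.structureModule X) ⟶ L := biproduct.desc fun j => σ (e.symm j)
  have hO := isCoh_fin_sum (QCoh.isCoh_structureModule' (X := X)) r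
  have hT : Coh.IsCoh (cokernel ψ) := QCoh.isCoh_cokernel hO.1 hLc ψ
  have hTs : ∀ ζ : X, ¬ IsClosed ({ζ} : Set X) → Subsingleton (stk (cokernel ψ) ζ) := fun ζ hζ => by
    refine subsingleton_stk_cokernel ψ ζ fun y => ?_
    obtain ⟨c, hc⟩ := hσ ⟨ζ, (mem_bigPts hdim).2 hζ⟩ y
    refine ⟨c • stkMap (biproduct.ι (fun _ : Fin r => Coh.structureModule X)
      (e ⟨ζ, (mem_bigPts hdim).2 hζ⟩)) ζ (one ζ), ?_⟩
    rw [map_smul, ← stk_comp, biproduct.ι_desc, Equiv.symm_apply_apply]
    exact hc.symm
  let S : ShortComplex X.Modules := ShortComplex.mk ψ (cokernel.π ψ) (cokernel.condition ψ)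
  have hSe : S.Exact := ShortComplex.exact_of_g_is_cokernel _ (cokernelIsCokernel ψ)
  haveI : Epi S.g := inferInstanceAs (Epi (cokernel.π ψ))
  have hsum1 : Subsingleton (Coh.HH X (⨁ fun _ : Fin r => Coh.structureModule X) 1) := by
    haveI := CurveCohLib.finite_HH (k := k) hO 1
    haveI := CurveCohLib.finite_HH (k := k) (QCoh.isCoh_structureModule' (X := X)) 1
    refine (Module.finrank_zero_iff (R := k)).1 ?_
    rw [finrank_sum_copies, Module.finrank_zero_iff]
    infer_instance
  refine ⟨CurveH1.subsingleton_H1_middle k hdim hSe hsum1 (subsingleton_H1_of_finite_support k hT hTs),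
    CurveH1.gg_middle k hdim h1 hSe hO ?_ ?_⟩
  · refine Euler.GG.isGloballyGenerated fun T g hg => biproduct.hom_ext' _ _ fun j => ?_
    rw [comp_zero]
    exact hg _
  · refine CurveCohLib.GlobGen.gg_of_span fun x => ?_
    by_cases hx : x ∈ CohB1.support (cokernel ψ)
    · refine eq_top_iff.2 fun m _ => ?_
      have h0 : ∀ z ∈ CohB1.support (cokernel ψ), IsClosed ({z} : Set X) := fun z hz => by
        by_contra hc
        exact hz (hTs z hc)
      obtain ⟨s, hs, -⟩ := CurveCohLib.exists_section_single hT h0 hx m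
      exact Submodule.subset_span ⟨s, hs⟩
    · haveI : Subsingleton (stk S.X₃ x) := not_not.1 hx
      exact Subsingleton.elim _ _

end Field

end Groth.Agent.LS17.NefH1
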