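import Mathlib

/-! Finitely many nonzero vectors over extensions of a field are avoided by matrices over the field. -/

noncomputable section

universe u

open Polynomial

namespace Groth.Agent.LS17.NefH1

/-- A monic polynomial of positive degree over `k` without roots among given elements of extensions. -/
theorem exists_monic_avoid (k : Type u) [Field k] {ι : Type*} (S : Finset ι) (K : ι → Type u)
    [∀ i, Field (K i)] (σ : ∀ i, k →+* K i) (R : ∀ i, Finset (K i)) :
    ∃ p : k[X], p.Monic ∧ 0 < p.natDegree ∧ ∀ i ∈ S, ∀ z ∈ R i, p.eval₂ (σ i) z ≠ 0 := by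
  classical
  let T : Finset k[X] := (S.biUnion fun i => (R i).image fun z =>
    letI := (σ i).toAlgebra; minpoly k z).filter fun m => m.Monic
  let P : k[X] := ∏ m ∈ T, m
  have hP : P.Monic := monic_prod_of_monic T (fun m => m) fun m hm => (Finset.mem_filter.1 hm).2
  have hdeg : (1 : k[X]).degree < (X * P).degree := by
    rw [degree_one, degree_mul, degree_X, degree_eq_natDegree hP.ne_zero]
    exact_mod_cast Nat.lt_add_right P.natDegree Nat.one_pos
  refine ⟨X * P + 1, (monic_X.mul hP).add_of_left hdeg, ?_, fun i hi z hz => ?_⟩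
  · rw [natDegree_add_eq_left_of_degree_lt hdeg, monic_X.natDegree_mul hP, natDegree_X]
    omega
  letI := (σ i).toAlgebra
  show aeval z (X * P + 1) ≠ 0
  intro h
  by_cases halg : IsIntegral k z
  · have hm : minpoly k z ∈ T := Finset.mem_filter.2
      ⟨Finset.mem_biUnion.2 ⟨i, hi, Finset.mem_image.2 ⟨z, hz, rfl⟩⟩, minpoly.monic halg⟩
    have h0 : aeval z P = 0 := by
      rw [map_prod]
      exact Finset.prod_eq_zero hm (minpoly.aeval k z)
    rw [map_add, map_mul, h0, mul_zero, zero_add, map_one] at h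
    exact one_ne_zero h
  · exact halg ⟨X * P + 1, (monic_X.mul hP).add_of_left hdeg, by simpa [aeval_def] using h⟩

/-- Matrices over `k` combining finitely many vectors with a unit entry into invertible matrices. -/
theorem exists_matrices (k : Type u) [Field k] {ι : Type*} (S : Finset ι) (A : ι → Type u)
    [∀ i, CommRing (A i)] [∀ i, IsLocalRing (A i)] (σ : ∀ i, k →+* A i) {r : ℕ} (a : ∀ i, Fin r → A i)
    (h : ∀ i ∈ S, ∃ j, IsUnit (a i j)) :
    ∃ (N : ℕ) (_ : 0 < N) (C : Fin r → Matrix (Fin N) (Fin N) k),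
      ∀ i ∈ S, IsUnit (∑ j, a i j • (C j).map (σ i)) := by
  classical
  let κ : ι → Type u := fun i => IsLocalRing.ResidueField (A i)
  let res : ∀ i, A i →+* κ i := fun i => IsLocalRing.residue (A i)
  let q : ∀ i, (κ i)[X] := fun i => ∑ j, C (res i (a i j)) * X ^ (j : ℕ)
  let τ : ∀ i, k →+* AlgebraicClosure (κ i) := fun i =>
    (algebraMap (κ i) (AlgebraicClosure (κ i))).comp ((res i).comp (σ i))
  obtain ⟨p, hp, hd, hav⟩ := exists_monic_avoid k S (fun i => AlgebraicClosure (κ i)) τ
    (fun i => ((q i).map (algebraMap (κ i) (AlgebraicClosure (κ i)))).roots.toFinset)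
  let pb : PowerBasis k (AdjoinRoot p) := AdjoinRoot.powerBasis' hp
  let M : Matrix (Fin pb.dim) (Fin pb.dim) k := Algebra.leftMulMatrix pb.basis (AdjoinRoot.root p)
  refine ⟨pb.dim, hd, fun j => M ^ (j : ℕ), fun i hi => ?_⟩
  have hMp : aeval M p = 0 := by
    rw [aeval_algHom_apply, AdjoinRoot.aeval_eq, AdjoinRoot.mk_self, map_zero]
  let ρ : k →+* κ i := (res i).comp (σ i)
  have hq : q i ≠ 0 := fun h0 => by
    obtain ⟨j, hj⟩ := h i hi
    have hc := congrArg (fun f : (κ i)[X] => f.coeff j) h0
    simp only [q, finset_sum_coeff, coeff_C_mul, coeff_X_pow, Polynomial.coeff_zero] at hc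
    rw [Finset.sum_eq_single j (fun b _ hb => by
      rw [if_neg (fun e => hb (Fin.ext e).symm), mul_zero]) (fun hn => absurd (Finset.mem_univ j) hn),
      if_pos rfl, mul_one] at hc
    exact (hj.map (res i)).ne_zero hc
  have hcop : IsCoprime (q i) (p.map ρ) := by
    refine (isCoprime_iff_aeval_ne_zero_of_isAlgClosed (κ i) (AlgebraicClosure (κ i)) _ _).2 fun z => ?_
    by_cases hz : aeval z (q i) = 0
    · refine Or.inr fun h0 => hav i hi z ?_ ?_
      · rw [Multiset.mem_toFinset, mem_roots', Polynomial.map_ne_zero_iff (algebraMap (κ i) _).injective,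
          IsRoot.def, eval_map]
        exact ⟨hq, hz⟩
      · rw [aeval_def, eval₂_map] at h0
        exact h0
    · exact Or.inl hz
  let Mb : Matrix (Fin pb.dim) (Fin pb.dim) (κ i) := M.map ρ
  have hMbp : aeval Mb (p.map ρ) = 0 := by
    have hh : (algebraMap (κ i) (Matrix (Fin pb.dim) (Fin pb.dim) (κ i))).comp ρ =
        ρ.mapMatrix.comp (algebraMap k (Matrix (Fin pb.dim) (Fin pb.dim) k)) := by
      ext c a b
      simp only [RingHom.comp_apply, RingHom.mapMatrix_apply, Matrix.map_apply,
        Matrix.algebraMap_matrix_apply]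
      split <;> simp
    rw [aeval_def, eval₂_map, hh, show Mb = ρ.mapMatrix M from rfl, ← hom_eval₂]
    rw [aeval_def] at hMp
    rw [hMp, map_zero]
  obtain ⟨c, d, hcd⟩ := hcop
  have hu : IsUnit (aeval Mb (q i)) := by
    have h1 := congrArg (aeval Mb) hcd
    rw [map_add, map_mul, map_mul, hMbp, mul_zero, add_zero, map_one] at h1
    exact IsUnit.of_mul_eq_one _ (mul_eq_one_comm.1 h1)
  rw [Matrix.isUnit_iff_isUnit_det] at hu ⊢
  refine (isUnit_map_iff (res i) _).1 ?_
  rw [RingHom.map_det]
  convert hu using 2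
  simp only [q, map_sum, map_mul, map_pow, aeval_C, aeval_X, ← Algebra.smul_def]
  refine Finset.sum_congr rfl fun j _ => ?_
  rw [show Mb ^ (j : ℕ) = ρ.mapMatrix (M ^ (j : ℕ)) from (map_pow ρ.mapMatrix M j).symm]
  ext x y
  simp [ρ]

end Groth.Agent.LS17.NefH1
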