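import Groth.Agent.LS17.NefH1.Rel
import Groth.Agent.HQ47.Sect
import Groth.Agent.VarBase.NakaiCrit
import Groth.Agent.Ega2Va.Main

/-! Surjectivity of the multiplication of sections by the sections of a globally generated invertible
module, when `H²` of quasi-coherent modules and `H¹` of the module vanish. -/

noncomputable section

set_option linter.style.haveILetI false
set_option linter.unusedSectionVars false
set_option backward.isDefEq.respectTransparency false
set_option backward.isDefEq.respectTransparency.types false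
set_option maxHeartbeats 800000

universe u

open CategoryTheory CategoryTheory.Limits AlgebraicGeometry TopologicalSpace Opposite
open Groth.Agent.ParShLib (stk stkMap stkMap_germ)
open Groth.Agent.PnCoh.Finite (mapLin deltaLin)

namespace Groth.Agent.LS17.NefH1

open Groth.Agent AmpleVan Groth.Agent.H23

attribute [local instance] QCoh.hasFiniteBiproducts

variable {X : Scheme.{u}} {L : X.Modules} {b : ℕ} (σ : Fin b → Γ(L, ⊤))

/-- Multiplication by the sections `σ`. -/
def mulAll (W : X.Modules) : (⨁ fun _ : Fin b => W) ⟶ (tw L).obj W :=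
  biproduct.desc fun j => mulSec (σ j) W

/-- The Koszul relations of the multiplication by the sections `σ`. -/
def kos (W : X.Modules) (p : Fin (b * b)) : W ⟶ ⨁ fun _ : Fin b => (tw L).obj W :=
  mulSec (σ (finProdFinEquiv.symm p).1) W ≫ biproduct.ι (fun _ : Fin b => (tw L).obj W) (finProdFinEquiv.symm p).2 -
    mulSec (σ (finProdFinEquiv.symm p).2) W ≫ biproduct.ι (fun _ : Fin b => (tw L).obj W) (finProdFinEquiv.symm p).1

theorem kos_mulAll (hL : PicF.IsInvertible L) (W : X.Modules) (p : Fin (b * b)) :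
    kos σ W p ≫ mulAll σ ((tw L).obj W) = 0 := by
  have h : ∀ i j : Fin b, mulSec (σ i) W ≫ mulSec (σ j) ((tw L).obj W) =
      mulSec (σ j) W ≫ mulSec (σ i) ((tw L).obj W) := fun i j => by
    rw [mulSec_naturality, tw_map_mulSec hL]
  simp only [kos, mulAll, Preadditive.sub_comp, Category.assoc, biproduct.ι_desc]
  rw [h, sub_self]

/-- The Koszul relations, collected. -/
def kosMap (hL : PicF.IsInvertible L) (W : X.Modules) :
    (⨁ fun _ : Fin (b * b) => W) ⟶ kernel (mulAll σ ((tw L).obj W)) :=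
  kernel.lift _ (biproduct.desc fun p => kos σ W p) (by
    refine biproduct.hom_ext' _ _ fun p => ?_
    rw [biproduct.ι_desc_assoc, kos_mulAll σ hL, comp_zero])

theorem stk_sub {M N : X.Modules} (f g : M ⟶ N) (x : X) (a : stk M x) :
    stkMap (f - g) x a = stkMap f x a - stkMap g x a := by
  obtain ⟨U, hxU, s, rfl⟩ := TopCat.Presheaf.exists_germ_eq M.presheaf a
  rw [stkMap_germ, stkMap_germ, stkMap_germ]
  exact map_sub (N.presheaf.germ U x hxU).hom _ _

theorem bijective_stk_mulSec (τ : Γ(L, ⊤)) (M : X.Modules) {x : X} (hx : x ∈ TrivBasic.locus τ) :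
    Function.Bijective (stkMap (mulSec τ M) x) := by
  have hloc : x ∈ CohB1.genLocus L (InvX.ofSect τ) := hx
  have hb : ∀ {W : X.Opens}, W ≤ CohB1.genLocus L (InvX.ofSect τ) →
      Function.Bijective ((mulSec τ M).app W) := fun hW => by
    have h := HQ47.mulSec_app_bijective (InvX.ofSect τ) M hW
    rwa [InvX.one_ofSect] at h
  constructor
  · refine (injective_iff_map_eq_zero _).2 fun a ha => ?_
    obtain ⟨U, hxU, s, rfl⟩ := TopCat.Presheaf.exists_germ_eq M.presheaf a
    rw [stkMap_germ] at ha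
    obtain ⟨V, hxV, i, j, hV⟩ := ((tw L).obj M).presheaf.germ_eq (U := U) (V := U) x hxU hxU
      ((mulSec τ M).app U s) 0 (ha.trans (map_zero _).symm)
    let W : X.Opens := V ⊓ CohB1.genLocus L (InvX.ofSect τ)
    have hWU : W ≤ U := inf_le_left.trans (leOfHom i)
    have h0 : (mulSec τ M).app W (AModX.res M hWU s) = 0 := by
      rw [AModX.app_res]
      have := congrArg (AModX.res ((tw L).obj M) (inf_le_left : W ≤ V)) hV
      refine Eq.trans ?_ (Eq.trans this ?_)
      · exact (AModX.res_res (M := (tw L).obj M) _ _ _).symm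
      · rw [map_zero]; exact map_zero _
    have hs : AModX.res M hWU s = 0 := (hb inf_le_right).1 (h0.trans (map_zero _).symm)
    rw [← InvX.germ_res' hWU (show x ∈ W from ⟨hxV, hloc⟩) s, hs]
    exact map_zero _
  · intro y
    obtain ⟨U, hxU, t, rfl⟩ := TopCat.Presheaf.exists_germ_eq ((tw L).obj M).presheaf y
    let W : X.Opens := U ⊓ CohB1.genLocus L (InvX.ofSect τ)
    obtain ⟨s, hs⟩ := (hb (inf_le_right : W ≤ _)).2 (AModX.res ((tw L).obj M) (inf_le_left : W ≤ U) t)
    refine ⟨M.presheaf.germ W x ⟨hxU, hloc⟩ s, ?_⟩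
    rw [stkMap_germ, hs]
    exact InvX.germ_res' _ _ _

variable (hσ : ∀ x : X, ∃ j, x ∈ TrivBasic.locus (σ j))

include hσ in
theorem epi_mulAll (W : X.Modules) : Epi (mulAll σ W) := by
  refine Preadditive.epi_of_cokernel_zero (IsZero.eq_of_tgt (CurveCohLib.isZero_of_subsingleton_stalks fun x => ?_) _ _)
  obtain ⟨j, hj⟩ := hσ x
  refine subsingleton_of_forall_eq 0 fun y => ?_
  obtain ⟨z, rfl⟩ := stk_surjective (cokernel.π (mulAll σ W)) x y
  obtain ⟨w, rfl⟩ := (bijective_stk_mulSec (σ j) W hj).2 z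
  rw [← stk_comp]
  have h0 : mulSec (σ j) W ≫ cokernel.π (mulAll σ W) = 0 := by
    rw [show mulSec (σ j) W = biproduct.ι (fun _ : Fin b => W) j ≫ mulAll σ W from (biproduct.ι_desc (fun l => mulSec (σ l) W) j).symm,
      Category.assoc, cokernel.condition, comp_zero]
  rw [h0, stk_zero]

include hσ in
theorem epi_kosMap (hL : PicF.IsInvertible L) (W : X.Modules) : Epi (kosMap σ hL W) := by
  classical
  refine Preadditive.epi_of_cokernel_zero (IsZero.eq_of_tgt (CurveCohLib.isZero_of_subsingleton_stalks fun x => ?_) _ _)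
  obtain ⟨i, hi⟩ := hσ x
  let μ := mulAll σ ((tw L).obj W)
  let B := ⨁ fun _ : Fin b => (tw L).obj W
  let π := cokernel.π (kosMap σ hL W)
  refine subsingleton_of_forall_eq 0 fun y => ?_
  obtain ⟨z, rfl⟩ := stk_surjective π x y
  -- the coordinates
  choose w hw using fun j => (bijective_stk_mulSec (σ i) W hi).2
    (stkMap (biproduct.π (fun _ : Fin b => (tw L).obj W) j) x (stkMap (kernel.ι μ) x z))
  let e : Fin b → Fin (b * b) := fun j => finProdFinEquiv (i, j)
  let z' : stk (kernel μ) x :=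
    ∑ j, stkMap (biproduct.ι (fun _ : Fin (b * b) => W) (e j) ≫ kosMap σ hL W) x (w j)
  suffices hzz : z = z' by
    rw [hzz, map_sum]
    refine Finset.sum_eq_zero fun j _ => ?_
    rw [← stk_comp, Category.assoc, cokernel.condition, comp_zero, stk_zero]
  refine stk_injective (kernel.ι μ) x ?_
  have hk : ∀ j, (biproduct.ι (fun _ : Fin (b * b) => W) (e j) ≫ kosMap σ hL W) ≫ kernel.ι μ =
      mulSec (σ i) W ≫ biproduct.ι (fun _ : Fin b => (tw L).obj W) j -
        mulSec (σ j) W ≫ biproduct.ι (fun _ : Fin b => (tw L).obj W) i := fun j => by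
    rw [kosMap, Category.assoc, kernel.lift_ι, biproduct.ι_desc, kos]
    simp [e]
  let u := stkMap (kernel.ι μ) x z
  have hu : u = ∑ j, stkMap (biproduct.ι (fun _ : Fin b => (tw L).obj W) j) x
      (stkMap (biproduct.π (fun _ : Fin b => (tw L).obj W) j) x u) := by
    conv_lhs => rw [← stk_id _ x u, show 𝟙 B = ∑ j, biproduct.π (fun _ : Fin b => (tw L).obj W) j ≫
      biproduct.ι (fun _ : Fin b => (tw L).obj W) j from biproduct.total.symm]
    rw [stk_sum]
    simp_rw [stk_comp]
  let v : stk ((tw L).obj W) x := ∑ j, stkMap (mulSec (σ j) W) x (w j)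
  have hz' : stkMap (kernel.ι μ) x z' = u - stkMap (biproduct.ι (fun _ : Fin b => (tw L).obj W) i) x v := by
    simp only [z', v, map_sum]
    rw [hu, ← Finset.sum_sub_distrib]
    refine Finset.sum_congr rfl fun j _ => ?_
    rw [← stk_comp, hk, stk_sub, stk_comp, stk_comp, hw]
  have hv : v = 0 := by
    have h0 : ∀ a : stk (kernel μ) x, stkMap μ x (stkMap (kernel.ι μ) x a) = 0 := fun a => by
      rw [← stk_comp, kernel.condition, stk_zero]
    have h1 := h0 z'
    rw [hz', map_sub, h0 z, zero_sub, neg_eq_zero, ← stk_comp, show μ = mulAll σ ((tw L).obj W) from rfl, mulAll, biproduct.ι_desc] at h1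
    exact (bijective_stk_mulSec (σ i) _ hi).1 (h1.trans (map_zero _).symm)
  show u = _
  rw [hz', hv, map_zero, sub_zero]

theorem app_mulAll (W : X.Modules) (z : Γ(⨁ fun _ : Fin b => W, ⊤)) :
    ∃ v : Fin b → Γ(W, ⊤), (mulAll σ W).app ⊤ z = ∑ j, InvX.tmul (v j) (σ j) := by
  classical
  refine ⟨fun j => (biproduct.π (fun _ : Fin b => W) j).app ⊤ z, ?_⟩
  have hsum : ∀ (s : Finset (Fin b)), (∑ j ∈ s, biproduct.π (fun _ : Fin b => W) j ≫ mulSec (σ j) W).app ⊤ z =
      ∑ j ∈ s, InvX.tmul ((biproduct.π (fun _ : Fin b => W) j).app ⊤ z) (σ j) := by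
    intro s
    induction s using Finset.induction with
    | empty => simp
    | insert a s ha ih =>
      rw [Finset.sum_insert ha, Finset.sum_insert ha, ← ih]
      refine congrArg (fun y : Γ((tw L).obj W, ⊤) => y + _) ?_
      show (mulSec (σ a) W).app ⊤ _ = _
      rw [mulSec_app, AModX.res_self]
      rfl
  rw [show mulAll σ W = ∑ j, biproduct.π (fun _ : Fin b => W) j ≫ mulSec (σ j) W by
    refine biproduct.hom_ext' _ _ fun i => ?_
    rw [mulAll, biproduct.ι_desc, Preadditive.comp_sum, Finset.sum_eq_single i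
      (fun j _ hj => by rw [biproduct.ι_π_ne_assoc _ (Ne.symm hj), zero_comp]) (by simp)]
    rw [biproduct.ι_π_self_assoc]]
  exact hsum _

section Cohom

variable {A : Type u} [CommRing A] [X.Over (Spec (CommRingCat.of A))]
  [IsProper (X ↘ Spec (CommRingCat.of A))] (hfib : DimLE A (X := X))

omit hσ in
theorem isQCoh_sum {M : X.Modules} (hM : Coh.IsQCoh M) (N : ℕ) :
    Coh.IsQCoh (⨁ fun _ : Fin N => M) :=
  KFlatLib.isQCoh_of_iso
    (biproduct.whiskerEquiv (f := fun _ : ULift.{u} (Fin N) => M) (g := fun _ : Fin N => M) Equiv.ulift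
      fun _ => Iso.refl M)
    (QCoh.isQCoh_biproduct (fun _ : ULift.{u} (Fin N) => M) fun _ => hM)

omit hσ in
theorem isQCoh_tw {M : X.Modules} (hM : Coh.IsQCoh M) (hL : PicF.IsInvertible L) :
    Coh.IsQCoh ((tw L).obj M) :=
  KFlatLib.isQCoh_tensor hM (ProjUPX.isQCoh_of_isInvertible hL)

omit hσ in
include A in
theorem h1_sum {M : X.Modules} (h : Subsingleton (Coh.HH X M 1)) (N : ℕ) :
    Subsingleton (Coh.HH X (⨁ fun _ : Fin N => M) 1) := by
  refine subsingleton_of_forall_eq 0 fun z => ?_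
  rw [← sum_copies_eq (A := A) z]
  refine Finset.sum_eq_zero fun j _ => ?_
  rw [h.elim (mapLin A (biproduct.π (fun _ : Fin N => M) j) 1 z) 0, map_zero]

include hfib hσ in
theorem h1_tw {W : X.Modules} (hW : Coh.IsQCoh W) (hL : PicF.IsInvertible L)
    (hW1 : Subsingleton (Coh.HH X W 1)) : Subsingleton (Coh.HH X ((tw L).obj W) 1) := by
  haveI := epi_mulAll σ hσ W
  exact subsingleton_H1_of_epi_rel hfib (mulAll σ W) (isQCoh_sum hW b)
    (isQCoh_tw hW hL) (h1_sum (A := A) hW1 _)

include hfib hσ in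
/-- Every section of `(W ⊗ L) ⊗ L` is a combination of products with the sections `σ`. -/
theorem exists_sum_tmul {W : X.Modules} (hW : Coh.IsQCoh W) (hL : PicF.IsInvertible L)
    (hW1 : Subsingleton (Coh.HH X W 1)) (T : Γ((tw L).obj ((tw L).obj W), ⊤)) :
    ∃ v : Fin b → Γ((tw L).obj W, ⊤), T = ∑ j, InvX.tmul (v j) (σ j) := by
  have hB := isQCoh_sum (isQCoh_tw hW hL) b
  have hC := isQCoh_tw (isQCoh_tw hW hL) hL
  haveI := epi_mulAll σ hσ ((tw L).obj W)
  haveI := epi_kosMap σ hσ hL W
  have hK : Subsingleton (Coh.HH X (kernel (mulAll σ ((tw L).obj W))) 1) :=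
    subsingleton_H1_of_epi_rel hfib (kosMap σ hL W) (isQCoh_sum hW _)
      (QCoh.isQCoh_kernel hB hC _) (h1_sum (A := A) hW1 _)
  obtain ⟨z, hz⟩ := QCoh.app_top_surjective_of_HH_one
    (CurveH1.shortExact_kernel (mulAll σ ((tw L).obj W))) hK T
  obtain ⟨v, hv⟩ := app_mulAll σ ((tw L).obj W) z
  exact ⟨v, hz.symm.trans hv⟩

include hfib hσ in
theorem h1_tensorPow (hL : PicF.IsInvertible L) (m : ℕ)
    (hm : Subsingleton (Coh.HH X (CohB1.tensorPow L m) 1)) :
    ∀ n, m ≤ n → Subsingleton (Coh.HH X (CohB1.tensorPow L n) 1) := fun n hn => by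
  induction n, hn using Nat.le_induction with
  | base => exact hm
  | succ n hn ih =>
    exact h1_tw σ hσ hfib (ProjUPX.isQCoh_of_isInvertible (InvX.isInvertible_tensorPow hL n)) hL ih

include hfib hσ in
theorem exists_sum_tmul_pow (hL : PicF.IsInvertible L) (m : ℕ)
    (hm : Subsingleton (Coh.HH X (CohB1.tensorPow L m) 1)) (n : ℕ) (hn : m + 1 ≤ n)
    (T : Γ(CohB1.tensorMod (CohB1.tensorPow L n) L, ⊤)) :
    ∃ v : Fin b → Γ(CohB1.tensorPow L n, ⊤), T = ∑ j, InvX.tmul (v j) (σ j) := by
  obtain ⟨n', rfl⟩ : ∃ n', n = n' + 1 := ⟨n - 1, by omega⟩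
  exact exists_sum_tmul σ hσ hfib (ProjUPX.isQCoh_of_isInvertible (InvX.isInvertible_tensorPow hL n')) hL
    (h1_tensorPow σ hσ hfib hL m hm n' (by omega)) T

end Cohom

end Groth.Agent.LS17.NefH1
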