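import Groth.Agent.LS17.NefH1.Main
import Groth.Agent.LimMor.CohVanishGen
import Groth.Agent.AmpleVan.LiftFibre
import Groth.Agent.SurfInt.Curve
import Groth.Agent.QCoh.AffineCohom

/-! Relatively nef invertible modules on a proper morphism with fibres of dimension at most one and
`H¹(O) = 0`: global generation and vanishing of `H¹`. -/

noncomputable section

set_option linter.style.haveILetI false
set_option linter.unusedSectionVars false
set_option backward.isDefEq.respectTransparency false
set_option backward.isDefEq.respectTransparency.types false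

universe u

open CategoryTheory CategoryTheory.Limits AlgebraicGeometry TopologicalSpace Opposite
open Groth.Agent.ParShLib (stk stkMap stkMap_germ)
open Groth.Agent.PnCoh.Finite (mapLin deltaLin)

namespace Groth.Agent.LS17.NefH1

open Groth.Agent

attribute [local instance] QCoh.hasFiniteBiproducts

section Deg

variable (k : Type u) [Field k]

theorem euler_congr' {C : Scheme.{u}} [C.Over (Spec (CommRingCat.of k))] {M N : C.Modules} (e : M ≅ N) :
    Curv2.euler k C M = Curv2.euler k C N :=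
  finsum_congr fun n => by
    let f : Coh.HH C M n ≃ₗ[k] Coh.HH C N n := LinearEquiv.ofLinear (mapLin k e.hom n) (mapLin k e.inv n)
      (LinearMap.ext fun x => by
        rw [LinearMap.comp_apply, FFun.mapLin_comp, e.inv_hom_id, CurveDuality.mapLin_id]; rfl)
      (LinearMap.ext fun x => by
        rw [LinearMap.comp_apply, FFun.mapLin_comp, e.hom_inv_id, CurveDuality.mapLin_id]; rfl)
    rw [f.finrank_eq]

/-- The Euler characteristic does not see an isomorphism over the field. -/
theorem euler_pullback_iso {C C' : Scheme.{u}} [C.Over (Spec (CommRingCat.of k))]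
    [C'.Over (Spec (CommRingCat.of k))] (e : C ⟶ C') [IsIso e]
    (he : e ≫ (C' ↘ Spec (CommRingCat.of k)) = C ↘ Spec (CommRingCat.of k))
    {M : C'.Modules} (hM : Coh.IsQCoh M) :
    Curv2.euler k C ((Scheme.Modules.pullback e).obj M) = Curv2.euler k C' M := by
  haveI := SurfInt.isIso_unitToPush_of_iso e
  let u : Coh.structureModule C' ≅ (Coh.push e).obj (Coh.structureModule C) := asIso (ClSub.unitToPush e)
  have h := SurfInt.euler_quot_tensor (X := C') k e he (M := M) hM
  exact h.symm.trans (euler_congr' k (((SurfInt.tMapL u M).symm).trans (SurfInt.tUnitL M)))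

theorem deg_pullback_iso {C C' : Scheme.{u}} [C.Over (Spec (CommRingCat.of k))]
    [C'.Over (Spec (CommRingCat.of k))] (e : C ⟶ C') [IsIso e]
    (he : e ≫ (C' ↘ Spec (CommRingCat.of k)) = C ↘ Spec (CommRingCat.of k))
    {M : C'.Modules} (hM : Coh.IsQCoh M) :
    Curv2.deg k C ((Scheme.Modules.pullback e).obj M) 1 = Curv2.deg k C' M 1 := by
  obtain ⟨c⟩ := PicClLib.nonempty_pullback_structureModule e
  have h1 := euler_pullback_iso k e he hM
  have h2 := (euler_congr' k c.symm).trans (euler_pullback_iso k e he (QCoh.isQCoh_structureModule (X := C')))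
  unfold Curv2.deg
  rw [h1, h2]

end Deg

variable {A : Type u} [CommRing A] {X : Scheme.{u}} [X.Over (Spec (CommRingCat.of A))]
  [IsProper (X ↘ Spec (CommRingCat.of A))]

/-- The nef condition relative to the base ring. -/
def RelNef (L : X.Modules) : Prop :=
  ∀ (K : Type u) [Field K] (i : A →+* K) (J : X.IdealSheafData)
    (t : J.subscheme ⟶ Spec (CommRingCat.of K)),
    AlgebraicGeometry.IsIntegral J.subscheme → topologicalKrullDim ↥J.subscheme = 1 →
    t ≫ Spec.map (CommRingCat.ofHom i) = J.subschemeι ≫ (X ↘ Spec (CommRingCat.of A)) →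
    0 ≤ @Curv2.deg K _ J.subscheme ⟨t⟩ ((Scheme.Modules.pullback J.subschemeι).obj L) 1

variable (A) in
/-- The fibre dimension condition. -/
def DimLE : Prop :=
  ∀ y : ↥(Spec (CommRingCat.of A)), topologicalKrullDim ↥((X ↘ Spec (CommRingCat.of A)).fiber y) ≤ 1

variable (hfib : DimLE A (X := X))

include hfib in
theorem subsingleton_HH_two_rel {M : X.Modules} (hM : Coh.IsQCoh M) (n : ℕ) :
    Subsingleton (Coh.HH X M (n + 2)) :=
  LimMor.subsingleton_HH_of_fibre_dim_le (X ↘ Spec (CommRingCat.of A)) 1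
    (fun s => by exact_mod_cast hfib s) hM (by omega)

include hfib in
theorem surjective_H1_of_epi {M N : X.Modules} (g : M ⟶ N) [Epi g] (hM : Coh.IsQCoh M)
    (hN : Coh.IsQCoh N) : Function.Surjective (mapLin A g 1) := by
  intro z
  have h : z ∈ LinearMap.ker (deltaLin A (CurveH1.shortExact_kernel g) 1) :=
    LinearMap.mem_ker.2 ((subsingleton_HH_two_rel hfib (QCoh.isQCoh_kernel hM hN g) 0).elim _ _)
  rw [CurveCohLib.ker_deltaLin A (CurveH1.shortExact_kernel g) 1] at h
  exact h

include hfib in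
theorem subsingleton_H1_of_epi_rel {M N : X.Modules} (g : M ⟶ N) [Epi g] (hM : Coh.IsQCoh M)
    (hN : Coh.IsQCoh N) (h : Subsingleton (Coh.HH X M 1)) : Subsingleton (Coh.HH X N 1) :=
  (surjective_H1_of_epi hfib g hM hN).subsingleton

variable (A) in
/-- Multiplication by finitely many scalars. -/
def genMap (M : X.Modules) {r : ℕ} (a : Fin r → A) : (⨁ fun _ : Fin r => M) ⟶ M :=
  biproduct.desc fun i => Formal.smulMod A M (a i)

theorem equiv₀_mapLin {M : X.Modules} (φ : Coh.structureModule X ⟶ M) :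
    (Sheaf.H.equiv₀ (Coh.toAb M) isTerminalTop (mapLin A φ 0 (RegEpi.oneClass X)) : Γ(M, ⊤)) =
      RegEpi.one φ := by
  refine (Sheaf.H.equiv₀_naturality isTerminalTop ((SheafOfModules.toSheaf X.ringCatSheaf).map φ) _).symm.trans ?_
  refine congrArg (fun z => φ.app ⊤ z) ?_
  exact AddEquiv.apply_symm_apply _ _

theorem sum_copies_eq {M : X.Modules} {r n : ℕ} (z : Coh.HH X (⨁ fun _ : Fin r => M) n) :
    ∑ j, mapLin A (biproduct.ι (fun _ : Fin r => M) j) n
      (mapLin A (biproduct.π (fun _ : Fin r => M) j) n z) = z := by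
  refine (Finset.sum_congr rfl fun j _ => FFun.mapLin_comp (biproduct.π (fun _ : Fin r => M) j)
    (biproduct.ι (fun _ : Fin r => M) j) n z).trans ?_
  refine (PnDual.HHlin_sum (R := A) (q := n) (fun j => biproduct.π (fun _ : Fin r => M) j ≫
    biproduct.ι (fun _ : Fin r => M) j) Finset.univ z).symm.trans ?_
  rw [biproduct.total]
  show Sheaf.H.map ((QCoh.toAbFunctor X).map (𝟙 _)) n z = z
  rw [CategoryTheory.Functor.map_id]
  exact Sheaf.H.map_id_apply z

variable [IsNoetherianRing A]

theorem stk_smulMod (M : X.Modules) (a : A) (x : X) (z : stk M x) :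
    stkMap (Formal.smulMod A M a) x z =
      (X.presheaf.germ ⊤ x trivial (Coh.toGlobal (X ↘ Spec (CommRingCat.of A)) a)) • z := by
  obtain ⟨U, hxU, s, rfl⟩ := TopCat.Presheaf.exists_germ_eq M.presheaf z
  rw [stkMap_germ]
  refine (congrArg (M.presheaf.germ U x hxU) (AmpleVan.smulMod_app_affine M a U s)).trans ?_
  refine (QCoh.germ_smul' M hxU _ s).trans (congrArg (· • _) ?_)
  exact X.presheaf.germ_res_apply (homOfLE le_top) x hxU _

omit [IsNoetherianRing A] [IsProper (X ↘ Spec (CommRingCat.of A))] in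
/-- An element of the prime of `π x` vanishes at `x`. -/
theorem germ_mem_maximal {x : X} {a : A} (ha : a ∈ ((X ↘ Spec (CommRingCat.of A)) x).asIdeal) :
    X.presheaf.germ ⊤ x trivial (Coh.toGlobal (X ↘ Spec (CommRingCat.of A)) a) ∈
      IsLocalRing.maximalIdeal (X.presheaf.stalk x) := by
  rw [IsLocalRing.mem_maximalIdeal]
  intro hu
  have hx : x ∈ X.basicOpen (Coh.toGlobal (X ↘ Spec (CommRingCat.of A)) a) := (X.mem_basicOpen (U := (⊤ : X.Opens)) _ x trivial).2 hu
  have h : (X ↘ Spec (CommRingCat.of A)) x ∈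
      (Spec (CommRingCat.of A)).basicOpen ((Scheme.ΓSpecIso (CommRingCat.of A)).inv a) := by
    have he := (X ↘ Spec (CommRingCat.of A)).preimage_basicOpen_top ((Scheme.ΓSpecIso (CommRingCat.of A)).inv a)
    exact (SetLike.ext_iff.1 he x).2 hx
  rw [basicOpen_eq_of_affine] at h
  exact h ha

include hfib in
/-- Lipman's theorem, relative form. -/
theorem gg_and_h1_rel (h1 : Subsingleton (Coh.HH X (Coh.structureModule X) 1))
    {L : X.Modules} (hL : PicF.IsInvertible L) (hnef : RelNef (A := A) L) :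
    Curv2.IsGloballyGenerated L ∧ Subsingleton (Coh.HH X L 1) := by
  classical
  haveI : IsNoetherian X := by
    haveI : CompactSpace X := QuasiCompact.compactSpace_of_compactSpace (X ↘ Spec (CommRingCat.of A))
    exact { toIsLocallyNoetherian := LocallyOfFiniteType.isLocallyNoetherian (X ↘ Spec (CommRingCat.of A)) }
  have hLc : Coh.IsCoh L := AmpleVan.isCoh_invertible hL
  have hOc : Coh.IsCoh (Coh.structureModule X) := QCoh.isCoh_structureModule'
  -- the closed fibres
  have key : ∀ P : Ideal A, P.IsMaximal → ∃ (Z : Scheme.{u}) (i : Z ⟶ X) (_ : IsClosedImmersion i)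
      (q : Z ⟶ Spec (CommRingCat.of (A ⧸ P)))
      (_ : IsPullback i q (X ↘ Spec (CommRingCat.of A)) (Spec.map (CommRingCat.ofHom (Ideal.Quotient.mk P)))),
      Curv2.IsGloballyGenerated ((Scheme.Modules.pullback i).obj L) ∧
        Subsingleton (Coh.HH X (FFun.modJ P L) 1) := by
    intro P hP
    letI : Field (A ⧸ P) := Ideal.Quotient.field P
    let t := Spec.map (CommRingCat.ofHom (Ideal.Quotient.mk P))
    haveI : IsClosedImmersion t := IsClosedImmersion.spec_of_surjective _ Ideal.Quotient.mk_surjective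
    let Z := pullback (X ↘ Spec (CommRingCat.of A)) t
    let i : Z ⟶ X := pullback.fst _ _
    let q : Z ⟶ Spec (CommRingCat.of (A ⧸ P)) := pullback.snd _ _
    have sq : IsPullback i q (X ↘ Spec (CommRingCat.of A)) t := IsPullback.of_hasPullback _ _
    haveI : IsClosedImmersion i := MorphismProperty.of_isPullback sq.flip ‹IsClosedImmersion t›
    haveI hq : IsProper q := MorphismProperty.of_isPullback sq ‹IsProper (X ↘ Spec (CommRingCat.of A))›
    letI : Z.Over (Spec (CommRingCat.of (A ⧸ P))) := ⟨q⟩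
    haveI : IsProper (Z ↘ Spec (CommRingCat.of (A ⧸ P))) := hq
    haveI := CurveCohLib.isNoetherian_of_proper (k := A ⧸ P) (X := Z)
    have hpush : ∀ {M : X.Modules}, Coh.IsQCoh M →
        Nonempty (FFun.modJ P M ≅ (Coh.push i).obj ((Scheme.Modules.pullback i).obj M)) := fun {M} hM => by
      obtain ⟨h, hiso⟩ := AmpleVan.unit_desc_iso sq hM
      exact ⟨@asIso _ _ _ _ _ hiso⟩
    have hdimZ : topologicalKrullDim Z ≤ 1 := by
      let s : ↥(Spec (CommRingCat.of (A ⧸ P))) := Classical.arbitrary _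
      refine le_of_eq_of_le ?_ ((LimMor.dim_fiber_baseChange sq s).trans_le (hfib (t s)))
      have huniv : q.base ⁻¹' {s} = Set.univ := Set.eq_univ_of_forall fun z => Subsingleton.elim _ _
      refine Eq.symm ((q.fiberHomeo s).isHomeomorph.topologicalKrullDim_eq.trans ?_)
      exact (Homeomorph.setCongr huniv).trans (Homeomorph.Set.univ Z) |>.isHomeomorph.topologicalKrullDim_eq
    have hZ1 : Subsingleton (Coh.HH Z (Coh.structureModule Z) 1) := by
      obtain ⟨c⟩ := PicClLib.nonempty_pullback_structureModule i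
      obtain ⟨e⟩ := hpush hOc.1
      have hm : Subsingleton (Coh.HH X (FFun.modJ P (Coh.structureModule X)) 1) :=
        subsingleton_H1_of_epi_rel hfib (FFun.modJπ P _) hOc.1 (FFun.isCoh_modJ P hOc).1 h1
      haveI := AmpleVan.subsingleton_of_iso (e ≪≫ (Coh.push i).mapIso c) 1 hm
      obtain ⟨eH⟩ := QCoh.HH_push_of_isAffineHom i (QCoh.isQCoh_structureModule (X := Z)) 1
      exact eH.toEquiv.subsingleton
    have hLZ : PicF.IsInvertible ((Scheme.Modules.pullback i).obj L) := PicClLib.isInvertible_pullback i hL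
    have hnefZ : NefCond (A ⧸ P) ((Scheme.Modules.pullback i).obj L) := by
      intro J hJ hJd
      let c : J.subscheme ⟶ X := J.subschemeι ≫ i
      haveI : IsClosedImmersion c := inferInstanceAs (IsClosedImmersion (_ ≫ _))
      let κ := SurfInt.kerIso c
      haveI : IsIntegral c.ker.subscheme := SurfInt.isIntegral_ker c
      have hd : topologicalKrullDim ↥c.ker.subscheme = 1 :=
        (κ.inv.homeomorph.isHomeomorph.topologicalKrullDim_eq).trans hJd
      have hκ : κ.hom ≫ c.ker.subschemeι = c := SurfInt.kerIso_hom c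
      letI : J.subscheme.Over (Spec (CommRingCat.of (A ⧸ P))) :=
        ⟨J.subschemeι ≫ (Z ↘ Spec (CommRingCat.of (A ⧸ P)))⟩
      letI : c.ker.subscheme.Over (Spec (CommRingCat.of (A ⧸ P))) :=
        ⟨κ.inv ≫ J.subschemeι ≫ (Z ↘ Spec (CommRingCat.of (A ⧸ P)))⟩
      have hcomp : (κ.inv ≫ J.subschemeι ≫ q) ≫ t = c.ker.subschemeι ≫ (X ↘ Spec (CommRingCat.of A)) := by
        have h' : κ.inv ≫ c = c.ker.subschemeι :=
          (congrArg (κ.inv ≫ ·) hκ).symm.trans (κ.inv_hom_id_assoc _)
        rw [← h', Category.assoc, Category.assoc, ← sq.w]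
        simp [c]
      have h0 := hnef (A ⧸ P) (Ideal.Quotient.mk P) c.ker (κ.inv ≫ J.subschemeι ≫ q) ‹_› hd hcomp
      let M := (Scheme.Modules.pullback c.ker.subschemeι).obj L
      have he := deg_pullback_iso (A ⧸ P) κ.hom
        (show κ.hom ≫ κ.inv ≫ J.subschemeι ≫ (Z ↘ Spec (CommRingCat.of (A ⧸ P))) = _ from κ.hom_inv_id_assoc _)
        (M := M) (QCoh.isQCoh_pullback _ hLc.1)
      let iso : (Scheme.Modules.pullback κ.hom).obj M ≅
          (Scheme.Modules.pullback J.subschemeι).obj ((Scheme.Modules.pullback i).obj L) :=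
        (Scheme.Modules.pullbackComp κ.hom c.ker.subschemeι).app L ≪≫
          (Scheme.Modules.pullbackCongr hκ).app L ≪≫
          ((Scheme.Modules.pullbackComp J.subschemeι i).app L).symm
      have e2 := euler_congr' (A ⧸ P) iso
      unfold Curv2.deg at h0 he ⊢
      rw [← e2]
      exact le_of_le_of_eq h0 he.symm
    obtain ⟨hH, hgg⟩ := gg_and_h1 (k := A ⧸ P) hdimZ hZ1 hLZ hnefZ
    refine ⟨Z, i, inferInstance, q, sq, hgg, ?_⟩
    obtain ⟨e⟩ := hpush hLc.1
    haveI := hH
    obtain ⟨eH⟩ := QCoh.HH_push_of_isAffineHom i (QCoh.isQCoh_pullback i hLc.1) 1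
    exact AmpleVan.subsingleton_of_iso e.symm 1 eH.symm.toEquiv.subsingleton
  -- generators of a maximal ideal
  have gens : ∀ P : Ideal A, ∃ (r : ℕ) (a : Fin r → A), Ideal.span (Set.range a) = P := fun P =>
    Submodule.fg_iff_exists_fin_generating_family.1 (IsNoetherian.noetherian P)
  -- vanishing
  have hH1 : Subsingleton (Coh.HH X L 1) := by
    haveI : Module.Finite A (Coh.HH X L 1) := S0002.result A X L hLc 1
    by_contra hne
    have hann : (Module.annihilator A (Coh.HH X L 1)) ≠ ⊤ := fun h => hne (subsingleton_of_forall_eq 0 fun z => by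
      have h1' := Module.mem_annihilator.1 ((Ideal.eq_top_iff_one _).1 h) z
      rwa [one_smul] at h1')
    obtain ⟨P, hP, hle⟩ := Ideal.exists_le_maximal _ hann
    obtain ⟨Z, i, hi, q, sq, -, hfibre⟩ := key P hP
    obtain ⟨r, a, ha⟩ := gens P
    let Ψ := genMap A L a
    let C := cokernel Ψ
    have hCc : Coh.IsCoh C := QCoh.isCoh_cokernel (isCoh_fin_sum hLc r).1 hLc Ψ
    have hk : P ≤ FFun.killIdeal C := by
      rw [← ha, Ideal.span_le]
      rintro _ ⟨j, rfl⟩
      refine FFun.mem_killIdeal.2 ?_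
      rw [← cancel_epi (cokernel.π Ψ), ← FFun.smulMod_naturality, comp_zero,
        show Formal.smulMod A L (a j) = biproduct.ι (fun _ : Fin r => L) j ≫ Ψ from by
          simp [Ψ, genMap], Category.assoc, cokernel.condition, comp_zero]
    haveI : Epi (FFun.descJ (cokernel.π Ψ) hk) := epi_of_epi_fac (FFun.π_descJ (cokernel.π Ψ) hk)
    have hC1 : Subsingleton (Coh.HH X C 1) :=
      subsingleton_H1_of_epi_rel hfib (FFun.descJ (cokernel.π Ψ) hk) (FFun.isCoh_modJ P hLc).1 hCc.1 hfibre
    have htop : (⊤ : Submodule A (Coh.HH X L 1)) ≤ P • ⊤ := fun x _ => by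
      have h : x ∈ LinearMap.ker (mapLin A (cokernel.π Ψ) 1) := LinearMap.mem_ker.2 (hC1.elim _ _)
      rw [CurveCohLib.ker_mapLin_g A (CurveH1.shortExact_kernel (cokernel.π Ψ)) 1] at h
      obtain ⟨y, rfl⟩ := h
      haveI := (ShortComplex.exact_of_g_is_cokernel (ShortComplex.mk Ψ (cokernel.π Ψ) (cokernel.condition Ψ))
        (cokernelIsCokernel Ψ)).epi_kernelLift
      let g := kernel.lift (cokernel.π Ψ) Ψ (cokernel.condition Ψ)
      obtain ⟨w, rfl⟩ := surjective_H1_of_epi hfib g (isCoh_fin_sum hLc r).1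
        (QCoh.isQCoh_kernel hLc.1 hCc.1 _) y
      have hw : mapLin A (kernel.ι (cokernel.π Ψ)) 1 (mapLin A g 1 w) = mapLin A Ψ 1 w := by
        rw [FFun.mapLin_comp, kernel.lift_ι]
      change mapLin A (kernel.ι (cokernel.π Ψ)) 1 (mapLin A g 1 w) ∈ P • ⊤
      rw [hw]
      have hdec : Ψ = ∑ j, biproduct.π (fun _ : Fin r => L) j ≫ Formal.smulMod A L (a j) := by
        refine biproduct.hom_ext' _ _ fun j => ?_
        simp [Ψ, genMap, Preadditive.comp_sum, biproduct.ι_π_assoc, ite_comp]
      have hsum : mapLin A Ψ 1 w = ∑ j, a j • mapLin A (biproduct.π (fun _ : Fin r => L) j) 1 w := by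
        rw [hdec]
        refine (PnDual.HHlin_sum (R := A) (q := 1)
          (fun j => biproduct.π (fun _ : Fin r => L) j ≫ Formal.smulMod A L (a j)) Finset.univ w).trans ?_
        refine Finset.sum_congr rfl fun j _ => ?_
        rw [← FFun.mapLin_smulMod A L (a j) 1, FFun.mapLin_comp]
        rfl
      rw [hsum]
      exact Submodule.sum_mem _ fun j _ =>
        Submodule.smul_mem_smul (ha ▸ Ideal.subset_span ⟨j, rfl⟩) Submodule.mem_top
    obtain ⟨c, hc, hc0⟩ :=
      Submodule.exists_sub_one_mem_and_smul_eq_zero_of_fg_of_le_smul P ⊤ Module.Finite.fg_top htop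
    have hcP : c ∈ P := hle (Module.mem_annihilator.2 fun z => hc0 z trivial)
    exact hP.ne_top ((Ideal.eq_top_iff_one _).2 (by simpa using P.sub_mem hcP hc))
  -- generation
  haveI := hH1
  obtain ⟨r₀, σ, hσ⟩ : ∃ (b : ℕ) (σ : Fin b → (Coh.structureModule X ⟶ L)),
      ∀ τ : Coh.structureModule X ⟶ L, ∀ {T : X.Modules} (g : L ⟶ T), (∀ j, σ j ≫ g = 0) → τ ≫ g = 0 := by
    haveI : Module.Finite A (Coh.HH X L 0) := S0002.result A X L hLc 0
    obtain ⟨b, v, hv⟩ := Module.Finite.exists_fin (R := A) (M := Coh.HH X L 0)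
    choose σ hσ using fun j => (show ∃ φ : Coh.structureModule X ⟶ L,
      mapLin A φ 0 (RegEpi.oneClass X) = v j from by
        refine ⟨InvX.ofSect (Sheaf.H.equiv₀ (Coh.toAb L) isTerminalTop (v j)),
          (Sheaf.H.equiv₀ (Coh.toAb L) isTerminalTop).injective ?_⟩
        exact (equiv₀_mapLin (A := A) _).trans (RegEpi.one_ofSect _))
    refine ⟨b, σ, fun τ {T} g hg => RegEpi.hom_eq_of_one_eq _ _ ?_⟩
    have h0 : ∀ z : Coh.HH X L 0, mapLin A g 0 z = 0 := fun z => by
      have hz : z ∈ Submodule.span A (Set.range v) := hv ▸ Submodule.mem_top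
      induction hz using Submodule.span_induction with
      | mem y hy =>
        obtain ⟨j, rfl⟩ := hy
        rw [← hσ j, FFun.mapLin_comp, hg j]
        exact (PnDual.HHlin_sum (R := A) (q := 0) (fun _ : Fin 0 => (0 : Coh.structureModule X ⟶ T))
          Finset.univ (RegEpi.oneClass X)).trans (by simp)
      | zero => rw [map_zero]
      | add y z _ _ hy hz => rw [map_add, hy, hz, add_zero]
      | smul c y _ hy => rw [map_smul, hy, smul_zero]
    have h1' := (equiv₀_mapLin (A := A) (τ ≫ g)).symm.trans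
      (congrArg (Sheaf.H.equiv₀ (Coh.toAb T) isTerminalTop)
        ((FFun.mapLin_comp τ g 0 (RegEpi.oneClass X)).symm.trans (h0 _)))
    exact h1'.trans ((map_zero _).trans rfl)
  let Φ : (⨁ fun _ : Fin r₀ => Coh.structureModule X) ⟶ L := biproduct.desc σ
  let C := cokernel Φ
  have hCc : Coh.IsCoh C := QCoh.isCoh_cokernel (isCoh_fin_sum hOc r₀).1 hLc Φ
  suffices hz : ∀ x : X, Subsingleton (stk C x) by
    have hC0 : IsZero C := CurveCohLib.isZero_of_subsingleton_stalks hz
    refine ⟨Euler.GG.isGloballyGenerated fun T g hg => ?_, hH1⟩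
    have h0 : Φ ≫ g = 0 := biproduct.hom_ext' _ _ fun j => by
      rw [← Category.assoc, biproduct.ι_desc, comp_zero]
      exact hg _
    rw [← cokernel.π_desc Φ g h0, hC0.eq_of_src (cokernel.desc Φ g h0) 0, comp_zero]
  intro x
  by_contra hx
  haveI : CompactSpace X := inferInstance
  obtain ⟨p, hp, hpc⟩ := (QCoh.isClosed_support_of_isFT hCc.1 hCc.2).exists_closed_singleton ⟨x, hx⟩
  have hy : IsClosed ({(X ↘ Spec (CommRingCat.of A)) p} : Set ↥(Spec (CommRingCat.of A))) := by
    have := (X ↘ Spec (CommRingCat.of A)).isClosedMap _ hpc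
    rwa [Set.image_singleton] at this
  have hP : ((X ↘ Spec (CommRingCat.of A)) p).asIdeal.IsMaximal :=
    (PrimeSpectrum.isClosed_singleton_iff_isMaximal _).1 hy
  obtain ⟨P, hPdef⟩ : ∃ P : Ideal A, ((X ↘ Spec (CommRingCat.of A)) p).asIdeal = P := ⟨_, rfl⟩
  rw [hPdef] at hP
  obtain ⟨Z, i, hi, q, sq, hgg, hfibre⟩ := key P hP
  haveI := hi
  obtain ⟨r, a, ha⟩ := gens P
  let Ψ := genMap A L a
  -- sections of the fibre lift
  have hker : Subsingleton (Coh.HH X (kernel (cokernel.π Ψ)) 1) := by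
    haveI := (ShortComplex.exact_of_g_is_cokernel (ShortComplex.mk Ψ (cokernel.π Ψ) (cokernel.condition Ψ))
      (cokernelIsCokernel Ψ)).epi_kernelLift
    refine subsingleton_H1_of_epi_rel hfib (kernel.lift (cokernel.π Ψ) Ψ (cokernel.condition Ψ))
      (isCoh_fin_sum hLc r).1 (QCoh.isQCoh_kernel hLc.1
        (QCoh.isCoh_cokernel (isCoh_fin_sum hLc r).1 hLc Ψ).1 _) ?_
    refine subsingleton_of_forall_eq 0 fun z => ?_
    rw [← sum_copies_eq (A := A) z]
    refine Finset.sum_eq_zero fun j _ => ?_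
    rw [Subsingleton.elim (mapLin A (biproduct.π (fun _ : Fin r => L) j) 1 z) 0, map_zero]
  have hlift : ∀ s : Coh.structureModule X ⟶ FFun.modJ P L, ∃ τ : Coh.structureModule X ⟶ L,
      τ ≫ FFun.modJπ P L = s := fun s => by
    have hk : P ≤ FFun.killIdeal (cokernel Ψ) := by
      rw [← ha, Ideal.span_le]
      rintro _ ⟨j, rfl⟩
      refine FFun.mem_killIdeal.2 ?_
      rw [← cancel_epi (cokernel.π Ψ), ← FFun.smulMod_naturality, comp_zero,
        show Formal.smulMod A L (a j) = biproduct.ι (fun _ : Fin r => L) j ≫ Ψ from by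
          simp [Ψ, genMap], Category.assoc, cokernel.condition, comp_zero]
    have hv : Ψ ≫ FFun.modJπ P L = 0 := biproduct.hom_ext' _ _ fun j => by
      simp only [Ψ, genMap, biproduct.ι_desc_assoc, comp_zero]
      rw [FFun.smulMod_naturality,
        FFun.mem_killIdeal.1 (FFun.le_killIdeal_modJ P L (ha ▸ Ideal.subset_span ⟨j, rfl⟩)), comp_zero]
    let u := FFun.descJ (cokernel.π Ψ) hk
    let v := cokernel.desc Ψ (FFun.modJπ P L) hv
    have huv : u ≫ v = 𝟙 _ := by
      rw [← cancel_epi (FFun.modJπ P L), FFun.π_descJ_assoc, cokernel.π_desc, Category.comp_id]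
    obtain ⟨y, hy⟩ := QCoh.app_top_surjective_of_HH_one (CurveH1.shortExact_kernel (cokernel.π Ψ)) hker
      (RegEpi.one (s ≫ u))
    have hτ : InvX.ofSect y ≫ cokernel.π Ψ = s ≫ u := RegEpi.hom_eq_of_one_eq _ _ (by
      rw [← hy]
      exact congrArg ((cokernel.π Ψ).app ⊤) (RegEpi.one_ofSect y))
    refine ⟨InvX.ofSect y, ?_⟩
    rw [← cokernel.π_desc Ψ (FFun.modJπ P L) hv, ← Category.assoc, hτ, Category.assoc, huv, Category.comp_id]
  -- the cokernel is zero modulo `P`
  have hmod : IsZero (FFun.modJ P C) := by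
    let g : L ⟶ FFun.modJ P C := cokernel.π Φ ≫ FFun.modJπ P C
    have hgk : P ≤ FFun.killIdeal (FFun.modJ P C) := FFun.le_killIdeal_modJ P C
    let g' := FFun.descJ g hgk
    suffices hg0 : g' = 0 by
      haveI : Epi g := inferInstanceAs (Epi (_ ≫ _))
      have : g = 0 := by rw [← FFun.π_descJ g hgk, show FFun.descJ g hgk = 0 from hg0, comp_zero]
      exact IsZero.of_epi_eq_zero g this
    obtain ⟨h, hiso⟩ := AmpleVan.unit_desc_iso sq hLc.1
    let eL : FFun.modJ P L ≅ (Coh.push i).obj ((Scheme.Modules.pullback i).obj L) := @asIso _ _ _ _ _ hiso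
    have hTc : Coh.IsCoh (FFun.modJ P C) := FFun.isCoh_modJ P hCc
    obtain ⟨eT⟩ := AmpleVan.exists_eq_push_of_killed sq hTc.1 fun b hb => FFun.mem_killIdeal.1 (hgk hb)
    obtain ⟨ψ, hψ⟩ := AmpleVan.exists_push_map i (QCoh.isQCoh_pullback i hLc.1)
      (QCoh.isQCoh_pullback i hTc.1) (eL.inv ≫ g' ≫ eT.hom)
    have hsec : ∀ s : Coh.structureModule X ⟶ FFun.modJ P L, s ≫ g' = 0 := fun s => by
      obtain ⟨τ, rfl⟩ := hlift s
      rw [Category.assoc, FFun.π_descJ]
      refine hσ τ g fun j => ?_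
      rw [← biproduct.ι_desc σ j, Category.assoc, show Φ ≫ g = 0 from
        (cokernel.condition_assoc Φ _).trans zero_comp, comp_zero]
    have hψ0 : ψ = 0 := CurveH1.gg_of_isGloballyGenerated hgg _ ψ fun s => by
      refine RegEpi.hom_eq_of_one_eq _ _ ?_
      let M₀ := (Scheme.Modules.pullback i).obj L
      let y₀ : Γ(M₀, ⊤) := RegEpi.one s
      let y : Γ((Coh.push i).obj M₀, ⊤) := y₀
      let s' : Coh.structureModule X ⟶ (Coh.push i).obj ((Scheme.Modules.pullback i).obj L) :=
        InvX.ofSect y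
      have h1' : s' ≫ (Coh.push i).map ψ = 0 := by
        rw [show (Coh.push i).map ψ = eL.inv ≫ g' ≫ eT.hom from hψ, ← Category.assoc, ← Category.assoc,
          hsec (s' ≫ eL.inv), zero_comp]
      have h2 := congrArg RegEpi.one h1'
      refine Eq.trans ?_ (h2.trans rfl)
      refine Eq.trans ?_ (congrArg (fun w => ((Coh.push i).map ψ).app ⊤ w) (RegEpi.one_ofSect y)).symm
      rfl
    rw [hψ0, Functor.map_zero] at hψ
    have h3 : g' ≫ eT.hom = 0 := by rw [← cancel_epi eL.inv, ← hψ, comp_zero]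
    rw [← cancel_mono eT.hom, h3, zero_comp]
  -- Nakayama at the closed point
  refine hp ?_
  haveI : Module.Finite (X.presheaf.stalk p) (stk C p) := QCoh.finite_stalk_of_isFT hCc.1 hCc.2 p
  have hsurj : Function.Surjective (stkMap (genMap A C a) p) := by
    refine stk_surjective_of_cokernel _ p ?_
    have hk : P ≤ FFun.killIdeal (cokernel (genMap A C a)) := by
      rw [← ha, Ideal.span_le]
      rintro _ ⟨j, rfl⟩
      refine FFun.mem_killIdeal.2 ?_
      rw [← cancel_epi (cokernel.π (genMap A C a)), ← FFun.smulMod_naturality, comp_zero,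
        show Formal.smulMod A C (a j) = biproduct.ι (fun _ : Fin r => C) j ≫ genMap A C a from by
          simp [genMap], Category.assoc, cokernel.condition, comp_zero]
    haveI : Epi (FFun.descJ (cokernel.π (genMap A C a)) hk) :=
      epi_of_epi_fac (FFun.π_descJ (cokernel.π (genMap A C a)) hk)
    refine subsingleton_of_forall_eq 0 fun z => ?_
    obtain ⟨w, rfl⟩ := stk_surjective (FFun.descJ (cokernel.π (genMap A C a)) hk) p z
    rw [hmod.eq_of_src (FFun.descJ (cokernel.π (genMap A C a)) hk) 0, stk_zero]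
  have htop : (⊤ : Submodule (X.presheaf.stalk p) (stk C p)) ≤
      IsLocalRing.maximalIdeal (X.presheaf.stalk p) • ⊤ := fun z _ => by
    obtain ⟨w, rfl⟩ := hsurj z
    rw [← stk_id (⨁ fun _ : Fin r => C) p w, ← biproduct.total, stk_sum, map_sum]
    refine Submodule.sum_mem _ fun j _ => ?_
    rw [stk_comp, ← stk_comp (biproduct.ι (fun _ : Fin r => C) j) (genMap A C a), genMap, biproduct.ι_desc,
      stk_smulMod]
    exact Submodule.smul_mem_smul (germ_mem_maximal (hPdef ▸ ha ▸ Ideal.subset_span ⟨j, rfl⟩))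
      Submodule.mem_top
  have hbot := Submodule.eq_bot_of_le_smul_of_le_jacobson_bot (IsLocalRing.maximalIdeal (X.presheaf.stalk p)) ⊤
    Module.Finite.fg_top htop (IsLocalRing.jacobson_eq_maximalIdeal ⊥ bot_ne_top).ge
  exact subsingleton_of_forall_eq 0 fun z => (Submodule.mem_bot (X.presheaf.stalk p)).1 (hbot ▸ Submodule.mem_top)

end Groth.Agent.LS17.NefH1
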