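import Groth.Agent.LS17.NefH1.Stalk
import Groth.Agent.LS17.NefH1.Matrix
import Groth.Agent.LS17.CurveH1
import Groth.Agent.Lib.InvEnd
import Groth.Agent.Lib.CurveDualPrep
import Groth.Agent.Lib.PnDualCoh
import Groth.Agent.CurveCohLib.Euler
import Groth.Agent.CurveCohLib.SubBundle

/-! Generic generation by sections, twisted by a cyclic quotient, and first cohomology. -/

noncomputable section

set_option linter.style.haveILetI false
set_option linter.unusedSectionVars false
set_option backward.isDefEq.respectTransparency false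
set_option backward.isDefEq.respectTransparency.types false

universe u

open CategoryTheory CategoryTheory.Limits AlgebraicGeometry TopologicalSpace Opposite
open scoped TensorProduct
open Groth.Agent.ParShLib (stk stkMap stkMap_germ)
open Groth.Agent.PnCoh.Finite (mapLin)

namespace Groth.Agent.LS17.NefH1

open Groth.Agent

attribute [local instance] QCoh.hasFiniteBiproducts

variable {X : Scheme.{u}}

theorem stk_comp {M N P : X.Modules} (f : M ⟶ N) (g : N ⟶ P) (x : X) (a : stk M x) :
    stkMap (f ≫ g) x a = stkMap g x (stkMap f x a) := by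
  simp only [stkMap, Functor.map_comp, ModuleCat.hom_comp]
  rfl

theorem stk_zero {M N : X.Modules} (x : X) (a : stk M x) : stkMap (0 : M ⟶ N) x a = 0 := by
  simp only [stkMap, Functor.map_zero, ModuleCat.hom_zero]
  rfl

theorem stk_id (M : X.Modules) (x : X) (a : stk M x) : stkMap (𝟙 M) x a = a := by
  simp [stkMap]

theorem stk_sum {M N : X.Modules} {ι : Type*} (s : Finset ι) (f : ι → (M ⟶ N)) (x : X) (a : stk M x) :
    stkMap (∑ i ∈ s, f i) x a = ∑ i ∈ s, stkMap (f i) x a := by
  classical
  induction s using Finset.induction_on with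
  | empty =>
    rw [Finset.sum_empty, Finset.sum_empty]
    exact stk_zero x a
  | insert b s hb ih =>
    rw [Finset.sum_insert hb, Finset.sum_insert hb, ← ih]
    simp only [stkMap, Functor.map_add, ModuleCat.hom_add]
    rfl

theorem stk_surjective {M N : X.Modules} (f : M ⟶ N) [Epi f] (x : X) : Function.Surjective (stkMap f x) :=
  (ModuleCat.epi_iff_surjective _).1 inferInstance

theorem stk_injective {M N : X.Modules} (f : M ⟶ N) [Mono f] (x : X) : Function.Injective (stkMap f x) :=
  (ModuleCat.mono_iff_injective _).1 inferInstance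

/-- The stalk of a kernel. -/
theorem subsingleton_stk_kernel {M N : X.Modules} (f : M ⟶ N) (x : X)
    (h : Function.Injective (stkMap f x)) : Subsingleton (stk (kernel f) x) := by
  refine subsingleton_of_forall_eq 0 fun a => stk_injective (kernel.ι f) x (h ?_)
  rw [← stk_comp, kernel.condition, stk_zero, map_zero, map_zero]

/-- The stalk of a cokernel. -/
theorem subsingleton_stk_cokernel {M N : X.Modules} (f : M ⟶ N) (x : X)
    (h : Function.Surjective (stkMap f x)) : Subsingleton (stk (cokernel f) x) := by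
  refine subsingleton_of_forall_eq 0 fun t => ?_
  obtain ⟨a, rfl⟩ := stk_surjective (cokernel.π f) x t
  obtain ⟨b, rfl⟩ := h a
  rw [← stk_comp, cokernel.condition, stk_zero]

section Matrices

variable (k : Type u) [Field k] [X.Over (Spec (CommRingCat.of k))]

/-- The constants in a local ring. -/
def cst (x : X) : k →+* X.presheaf.stalk x :=
  (X.presheaf.germ ⊤ x trivial).hom.comp (Coh.toGlobal (X ↘ Spec (CommRingCat.of k)))

theorem stk_ofSect_one (c : k) (x : X) :
    stkMap (InvX.ofSect (M := Coh.structureModule X)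
      (Coh.toGlobal (X ↘ Spec (CommRingCat.of k)) c)) x (one x) = cst k x c • one x := by
  refine (stkMap_germ _ (U := (⊤ : X.Opens)) trivial _).trans ?_
  refine Eq.trans ?_ (smul_one_germ (W := (⊤ : X.Opens)) trivial _)
  exact congrArg ((Coh.structureModule X).presheaf.germ ⊤ x trivial) (InvX.one_ofSect _)

include k in
/-- Finitely many sections generating at finitely many points combine to a square matrix of
sections, invertible at these points. -/
theorem exists_matrix_map (S : Finset X) {Q : X.Modules} {r : ℕ}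
    (φ : Fin r → (Coh.structureModule X ⟶ Q))
    (hgen : ∀ η ∈ S, ∃ j, ∀ y : stk Q η, ∃ c : X.presheaf.stalk η, y = c • stkMap (φ j) η (one η)) :
    ∃ (N : ℕ) (_ : 0 < N) (Φ : (⨁ fun _ : Fin N => Coh.structureModule X) ⟶ ⨁ fun _ : Fin N => Q),
      ∀ η ∈ S, Subsingleton (stk (cokernel Φ) η) := by
  classical
  choose j₀ hj₀ using fun η : {η // η ∈ S} => hgen η.1 η.2
  choose a ha using fun (η : {η // η ∈ S}) (j : Fin r) => hj₀ η (stkMap (φ j) η.1 (one η.1))
  let a' : ∀ η : {η // η ∈ S}, Fin r → X.presheaf.stalk η.1 := fun η =>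
    Function.update (a η) (j₀ η) 1
  have ha' : ∀ η j, stkMap (φ j) η.1 (one η.1) = a' η j • stkMap (φ (j₀ η)) η.1 (one η.1) := fun η j => by
    by_cases hj : j = j₀ η
    · rw [hj]; simp [a']
    · simp only [a', Function.update_of_ne hj]
      exact ha η j
  obtain ⟨N, hN, C, hC⟩ := exists_matrices k (S.attach) (fun η : {η // η ∈ S} => X.presheaf.stalk η.1)
    (fun η => cst k η.1) a' fun η _ => ⟨j₀ η, by simp [a']⟩
  let m : Fin N → Fin N → (Coh.structureModule X ⟶ Q) := fun c b => ∑ j,
    InvX.ofSect (M := Coh.structureModule X) (Coh.toGlobal (X ↘ Spec (CommRingCat.of k)) (C j c b)) ≫ φ j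
  let Φ := biproduct.matrix (f := fun _ : Fin N => Coh.structureModule X) (g := fun _ : Fin N => Q) m
  refine ⟨N, hN, Φ, fun η hη => subsingleton_of_forall_eq 0 fun t => ?_⟩
  let η' : {η // η ∈ S} := ⟨η, hη⟩
  let e := stkMap (φ (j₀ η')) η (one η)
  let π := cokernel.π Φ
  let z : Fin N → stk (cokernel Φ) η := fun b =>
    stkMap π η (stkMap (biproduct.ι (fun _ : Fin N => Q) b) η e)
  let T : Matrix (Fin N) (Fin N) (X.presheaf.stalk η) := ∑ j, a' η' j • (C j).map (cst k η)
  have hrel : ∀ c, ∑ b, T c b • z b = 0 := fun c => by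
    have hrow : biproduct.ι (fun _ : Fin N => Coh.structureModule X) c ≫ Φ =
        ∑ b, m c b ≫ biproduct.ι (fun _ : Fin N => Q) b := by
      refine biproduct.hom_ext _ _ fun b' => ?_
      simp only [Φ, Category.assoc, biproduct.matrix_π, biproduct.ι_desc, Preadditive.sum_comp,
        biproduct.ι_π, comp_dite, comp_zero]
      simp
    have h0 : stkMap π η (stkMap (biproduct.ι (fun _ : Fin N => Coh.structureModule X) c ≫ Φ) η (one η)) = 0 := by
      rw [← stk_comp, Category.assoc, cokernel.condition, comp_zero, stk_zero]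
    rw [hrow, stk_sum, map_sum] at h0
    refine Eq.trans (Finset.sum_congr rfl fun b _ => ?_) h0
    rw [stk_comp]
    simp only [m, stk_sum, map_sum]
    simp only [T, Matrix.sum_apply, Matrix.smul_apply, Matrix.map_apply, Finset.sum_smul]
    refine Finset.sum_congr rfl fun j _ => ?_
    rw [stk_comp, stk_ofSect_one, map_smul, map_smul, map_smul, show stkMap (φ j) η (one η) = a' η' j • e from ha' η' j,
      map_smul, map_smul, smul_smul, smul_eq_mul, mul_comm]
  obtain ⟨U, hU⟩ := (hC η' (Finset.mem_attach _ _)).exists_left_inv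
  have hz : ∀ b, z b = 0 := fun b => by
    have h1 : ∑ c, U b c • ∑ b', T c b' • z b' = 0 :=
      Finset.sum_eq_zero fun c _ => by rw [hrel c, smul_zero]
    simp only [Finset.smul_sum, smul_smul] at h1
    rw [Finset.sum_comm] at h1
    simp only [← Finset.sum_smul] at h1
    rw [Finset.sum_congr rfl fun b' _ => by
      rw [show (∑ c, U b c * T c b') = (1 : Matrix (Fin N) (Fin N) (X.presheaf.stalk η)) b b' from
        (Matrix.mul_apply (M := U) (N := T)).symm.trans (congrFun (congrFun hU b) b'),
        Matrix.one_apply]] at h1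
    simpa [ite_smul] using h1
  obtain ⟨w, rfl⟩ := stk_surjective π η t
  rw [← stk_id (⨁ fun _ : Fin N => Q) η w, ← biproduct.total, stk_sum, map_sum]
  refine Finset.sum_eq_zero fun b _ => ?_
  rw [stk_comp]
  obtain ⟨c, hc⟩ := hj₀ η' (stkMap (biproduct.π (fun _ : Fin N => Q) b) η w)
  rw [hc, map_smul, map_smul, show stkMap π η (stkMap (biproduct.ι (fun _ : Fin N => Q) b) η e) = 0 from hz b,
    smul_zero]

end Matrices

section Tensor

/-- The stalk of a twist. -/
def stalkTw (P M : X.Modules) (x : X) :
    stk ((AmpleVan.tw P).obj M) x ≃ₗ[X.presheaf.stalk x]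
      stk M x ⊗[X.presheaf.stalk x] stk P x :=
  ((KFlatLib.stalkTensorRightIso P x).app M).toLinearEquiv

theorem stalkTw_naturality (P : X.Modules) {M M' : X.Modules} (f : M ⟶ M') (x : X)
    (a : stk ((AmpleVan.tw P).obj M) x) :
    stalkTw P M' x (stkMap ((AmpleVan.tw P).map f) x a) =
      LinearMap.rTensor (stk P x) (stkMap f x) (stalkTw P M x a) :=
  ConcreteCategory.congr_hom ((KFlatLib.stalkTensorRightIso P x).hom.naturality f) a

theorem rTensor_injective {A : Type u} [CommRing A] {P P' N : Type u} [AddCommGroup P] [Module A P]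
    [AddCommGroup P'] [Module A P'] [AddCommGroup N] [Module A N] (q : P →ₗ[A] P')
    (hs : Function.Surjective q) (e : P) (I : Ideal A) (hk : ∀ p, q p = 0 → ∃ c ∈ I, p = c • e)
    (hI : ∀ c ∈ I, ∀ n : N, c • n = 0) : Function.Injective (q.rTensor N) := by
  rw [← LinearMap.ker_eq_bot, LinearMap.exact_iff.1
    (rTensor_exact N (LinearMap.exact_subtype_ker_map q) hs), eq_bot_iff]
  rintro _ ⟨w, rfl⟩
  induction w using TensorProduct.induction_on with
  | zero => simp
  | add w w' hw hw' => rw [map_add]; exact add_mem hw hw'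
  | tmul p n =>
    obtain ⟨c, hc, hp⟩ := hk p.1 (LinearMap.mem_ker.1 p.2)
    rw [LinearMap.rTensor_tmul, Submodule.subtype_apply, hp, TensorProduct.smul_tmul, hI c hc n,
      TensorProduct.tmul_zero]
    exact zero_mem _

variable {L : X.Modules}

/-- A twist of the structure module by an invertible module has free stalks of rank one. -/
theorem exists_gen_stk (hL : PicF.IsInvertible L) (x : X) :
    ∃ l : stk L x, Function.Bijective fun c : X.presheaf.stalk x => c • l := by
  obtain ⟨b⟩ := CurveTensor.exists_basis_stalk (InvEnd.isFinLocFreeOfRank_one hL) x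
  refine ⟨b 0, fun c c' h => ?_, fun y => ⟨b.repr y 0, ?_⟩⟩
  · simpa using congrArg (fun z => b.repr z 0) h
  · simpa using b.sum_repr y

theorem exists_gen_twist (hL : PicF.IsInvertible L) (I : X.IdealSheafData) (x : X) :
    ∃ e : stk ((AmpleVan.tw L).obj (ClSub.quotMod I)) x, ∀ a : X.presheaf.stalk x,
      a • e = 0 ↔ a ∈ IntMult.stalkIdeal I x := by
  obtain ⟨l, hl⟩ := exists_gen_stk hL x
  let eL : X.presheaf.stalk x ≃ₗ[X.presheaf.stalk x] stk L x :=
    LinearEquiv.ofBijective (LinearMap.toSpanSingleton _ _ l) hl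
  let T := stalkTw L (ClSub.quotMod I) x ≪≫ₗ
    TensorProduct.congr (LinearEquiv.refl _ _) eL.symm ≪≫ₗ TensorProduct.rid _ _
  refine ⟨T.symm (gen I x), fun a => ?_⟩
  rw [← map_smul, LinearEquiv.map_eq_zero_iff, smul_gen_eq_zero]

/-- A twisted cyclic quotient is generated by any element outside the maximal ideal. -/
theorem exists_smul_twist (hL : PicF.IsInvertible L) (I : X.IdealSheafData) (x : X)
    (y : stk ((AmpleVan.tw L).obj (ClSub.quotMod I)) x)
    (hy : y ∉ IsLocalRing.maximalIdeal (X.presheaf.stalk x) •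
      (⊤ : Submodule (X.presheaf.stalk x) (stk ((AmpleVan.tw L).obj (ClSub.quotMod I)) x))) :
    ∀ z, ∃ c : X.presheaf.stalk x, z = c • y := by
  obtain ⟨l, hl⟩ := exists_gen_stk hL x
  let w := (stalkTw L (ClSub.quotMod I) x).symm (gen I x ⊗ₜ l)
  have hw : ∀ z, ∃ c : X.presheaf.stalk x, z = c • w := fun z => by
    obtain ⟨t, rfl⟩ : ∃ t, (stalkTw L (ClSub.quotMod I) x).symm t = z :=
      (stalkTw L (ClSub.quotMod I) x).symm.surjective z
    induction t using TensorProduct.induction_on with
    | zero => exact ⟨0, by rw [map_zero, zero_smul]⟩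
    | add t t' ht ht' =>
      obtain ⟨c, hc⟩ := ht
      obtain ⟨c', hc'⟩ := ht'
      exact ⟨c + c', by rw [map_add, hc, hc', add_smul]⟩
    | tmul m n =>
      obtain ⟨c, rfl⟩ := exists_smul_gen I x m
      obtain ⟨d, rfl⟩ := hl.2 n
      exact ⟨c * d, by rw [← map_smul (stalkTw L (ClSub.quotMod I) x).symm, TensorProduct.smul_tmul_smul]⟩
  obtain ⟨u, hu⟩ := hw y
  have hunit : IsUnit u := by
    by_contra hnu
    exact hy (hu ▸ Submodule.smul_mem_smul ((IsLocalRing.mem_maximalIdeal _).2 hnu) Submodule.mem_top)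
  intro z
  obtain ⟨c, rfl⟩ := hw z
  obtain ⟨v, rfl⟩ := hunit
  exact ⟨c * ↑v⁻¹, by rw [hu, smul_smul, mul_assoc, Units.inv_mul, mul_one]⟩

/-- Multiplication by `O/K` is injective at points where the ideal kills. -/
theorem injective_twist_twist (hL : PicF.IsInvertible L) (K : X.IdealSheafData) (N : X.Modules) (x : X)
    (hkill : ∀ c ∈ IntMult.stalkIdeal K x, ∀ n : stk N x, c • n = 0) :
    Function.Injective (stkMap ((AmpleVan.tw N).map ((AmpleVan.tw L).map (ClSub.toSubscheme K))) x) := by
  haveI := CurvePoint.epi_toSubscheme K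
  haveI := AmpleVan.isEquivalence_tw hL
  let q := stkMap ((AmpleVan.tw L).map (ClSub.toSubscheme K)) x
  obtain ⟨l, hl⟩ := exists_gen_stk hL x
  let T := stalkTw L (Coh.structureModule X) x
  let e := T.symm (one x ⊗ₜ l)
  have he : ∀ p, ∃ c : X.presheaf.stalk x, p = c • e := fun p => by
    obtain ⟨t, rfl⟩ := T.symm.surjective p
    induction t using TensorProduct.induction_on with
    | zero => exact ⟨0, by rw [map_zero, zero_smul]⟩
    | add t t' ht ht' =>
      obtain ⟨c, hc⟩ := ht
      obtain ⟨c', hc'⟩ := ht'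
      exact ⟨c + c', by rw [map_add, hc, hc', add_smul]⟩
    | tmul m n =>
      obtain ⟨c, rfl⟩ := exists_smul_one x m
      obtain ⟨d, rfl⟩ := hl.2 n
      exact ⟨c * d, by rw [← map_smul T.symm, TensorProduct.smul_tmul_smul]⟩
  let eL : X.presheaf.stalk x ≃ₗ[X.presheaf.stalk x] stk L x :=
    LinearEquiv.ofBijective (LinearMap.toSpanSingleton _ _ l) hl
  have hk : ∀ p, q p = 0 → ∃ c ∈ IntMult.stalkIdeal K x, p = c • e := fun p hp => by
    obtain ⟨c, rfl⟩ := he p
    refine ⟨c, smul_gen_eq_zero.1 ?_, rfl⟩
    have h1 := congrArg (stalkTw L (ClSub.quotMod K) x) hp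
    rw [stalkTw_naturality, map_zero, map_smul, map_smul, LinearEquiv.apply_symm_apply,
      LinearMap.rTensor_tmul] at h1
    have h2 := congrArg (TensorProduct.congr (LinearEquiv.refl _ _) eL.symm ≪≫ₗ
      TensorProduct.rid (X.presheaf.stalk x) (stk (ClSub.quotMod K) x)) h1
    rw [map_zero, map_smul, LinearEquiv.trans_apply, TensorProduct.congr_tmul, TensorProduct.rid_tmul,
      eL.symm_apply_eq.2 (show l = eL 1 from (one_smul (X.presheaf.stalk x) l).symm), one_smul] at h2
    exact h2
  intro a b hab
  apply (stalkTw N _ x).injective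
  apply rTensor_injective q (stk_surjective _ x) e (IntMult.stalkIdeal K x) hk hkill
  rw [← stalkTw_naturality, ← stalkTw_naturality, hab]

theorem subsingleton_stk_tw {M P : X.Modules} {x : X}
    (h : Subsingleton (stk M x) ∨ Subsingleton (stk P x)) :
    Subsingleton (stk ((AmpleVan.tw P).obj M) x) := by
  haveI : Subsingleton (stk M x ⊗[X.presheaf.stalk x] stk P x) := subsingleton_of_forall_eq 0 fun t => by
    induction t using TensorProduct.induction_on with
    | zero => rfl
    | add a b ha hb => rw [ha, hb, add_zero]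
    | tmul a b =>
      rcases h with h | h
      · rw [Subsingleton.elim a 0, TensorProduct.zero_tmul]
      · rw [Subsingleton.elim b 0, TensorProduct.tmul_zero]
  exact (stalkTw P M x).toEquiv.subsingleton

end Tensor

section H1

variable (k : Type u) [Field k] [X.Over (Spec (CommRingCat.of k))]
  [IsProper (X ↘ Spec (CommRingCat.of k))]

include k in
/-- Modules vanishing at the non-closed points have no `H¹`. -/
theorem subsingleton_H1_of_finite_support {M : X.Modules} (hM : Coh.IsCoh M)
    (h : ∀ x : X, ¬ IsClosed ({x} : Set X) → Subsingleton (stk M x)) :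
    Subsingleton (Coh.HH X M 1) := by
  haveI := CurveCohLib.isNoetherian_of_proper (k := k) (X := X)
  refine S0047.result X M hM (fun x hx => ?_) 1 zero_lt_one
  by_contra hc
  exact hx (h x hc)

omit [IsProper (X ↘ Spec (CommRingCat.of k))] in
/-- Cohomology of a finite sum of copies. -/
theorem finrank_sum_copies (M : X.Modules) (N n : ℕ) :
    Module.finrank k (Coh.HH X (⨁ fun _ : Fin N => M) n) =
      Module.finrank k (Fin N → Coh.HH X M n) := by
  classical
  let f := fun _ : Fin N => M
  let to' : Coh.HH X (⨁ f) n →ₗ[k] (Fin N → Coh.HH X M n) :=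
    LinearMap.pi fun b => mapLin k (biproduct.π f b) n
  let from' : (Fin N → Coh.HH X M n) →ₗ[k] Coh.HH X (⨁ f) n :=
    ∑ b, (mapLin k (biproduct.ι f b) n).comp (LinearMap.proj b)
  refine (LinearEquiv.ofLinear to' from' ?_ ?_).finrank_eq
  · refine LinearMap.ext fun v => funext fun c => ?_
    simp only [to', from', LinearMap.comp_apply, LinearMap.pi_apply, LinearMap.sum_apply, map_sum,
      LinearMap.proj_apply, LinearMap.id_apply]
    rw [Finset.sum_eq_single c]
    · rw [FFun.mapLin_comp, biproduct.ι_π_self, CurveDuality.mapLin_id]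
      rfl
    · intro b _ hb
      rw [FFun.mapLin_comp, biproduct.ι_π_ne _ hb, CurveDuality.mapLin_zero]
    · exact fun h => absurd (Finset.mem_univ c) h
  · refine LinearMap.ext fun x => ?_
    simp only [to', from', LinearMap.comp_apply, LinearMap.pi_apply, LinearMap.sum_apply,
      LinearMap.proj_apply, LinearMap.id_apply]
    refine Eq.trans (Finset.sum_congr rfl fun b _ =>
      FFun.mapLin_comp (biproduct.π f b) (biproduct.ι f b) n x) ?_
    refine Eq.trans ?_ ((congrArg (fun g => mapLin k g n x) (biproduct.total (f := f))).trans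
      (CurveDuality.mapLin_id k _ n x))
    exact (PnDual.HHlin_sum (R := k) (q := n) (fun b => biproduct.π f b ≫ biproduct.ι f b) Finset.univ x).symm

end H1

end Groth.Agent.LS17.NefH1
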