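import Groth.Agent.IntMult63.Stalk
import Groth.Agent.ParShLib.ResStalk
import Groth.Agent.CurveCohLib.GlobGen
import Groth.Agent.Lib.CurvePoint
import Groth.Agent.AmpleVan.Tw
import Groth.Agent.VarBase.Decomp
import Groth.Agent.SurfInt.SectionDeg

/-! Stalks of cyclic quotients of the structure sheaf. -/

noncomputable section

set_option linter.style.haveILetI false
set_option linter.unusedSectionVars false
set_option backward.isDefEq.respectTransparency false
set_option backward.isDefEq.respectTransparency.types false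

universe u

open CategoryTheory CategoryTheory.Limits AlgebraicGeometry TopologicalSpace Opposite
open scoped TensorProduct
open Groth.Agent.ParShLib (stk stkMap stkMap_germ)

namespace Groth.Agent.LS17.NefH1

open Groth.Agent

variable {X : Scheme.{u}}

/-- The germ of one. -/
def one (x : X) : stk (Coh.structureModule X) x :=
  (Coh.structureModule X).presheaf.germ ⊤ x trivial (1 : Γ(X, ⊤))

theorem exists_smul_one (x : X) (y : stk (Coh.structureModule X) x) :
    ∃ a : X.presheaf.stalk x, y = a • one x :=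
  CurveCohLib.GlobGen.exists_smul_one x y

theorem smul_one_germ {x : X} {W : X.Opens} (hx : x ∈ W) (r : Γ(X, W)) :
    (Coh.structureModule X).presheaf.germ W x hx r = X.presheaf.germ W x hx r • one x := by
  let o : Γ(Coh.structureModule X, W) :=
    (Coh.structureModule X).presheaf.map (homOfLE le_top).op (1 : Γ(X, ⊤))
  have h : (show Γ(Coh.structureModule X, W) from r) = r • o := by
    change r = r * X.presheaf.map (homOfLE le_top).op (1 : Γ(X, ⊤))
    rw [map_one, mul_one]
  refine (congrArg ((Coh.structureModule X).presheaf.germ W x hx) h).trans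
    ((QCoh.germ_smul' (Coh.structureModule X) hx r o).trans ?_)
  exact congrArg (X.presheaf.germ W x hx r • ·)
    ((Coh.structureModule X).presheaf.germ_res_apply (homOfLE le_top) x hx _)

/-- The image of one in the stalk of `O/I`. -/
def gen (I : X.IdealSheafData) (x : X) : stk (ClSub.quotMod I) x :=
  stkMap (ClSub.toSubscheme I) x (one x)

theorem smul_gen_germ (I : X.IdealSheafData) {x : X} {W : X.Opens} (hx : x ∈ W) (r : Γ(X, W)) :
    X.presheaf.germ W x hx r • gen I x =
      (ClSub.quotMod I).presheaf.germ W x hx (I.subschemeι.app W r) := by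
  rw [gen, ← map_smul, ← smul_one_germ hx r, stkMap_germ]
  rfl

/-- The annihilator of the generator of `O/I` is the stalk of `I`. -/
theorem smul_gen_eq_zero {I : X.IdealSheafData} {x : X} {a : X.presheaf.stalk x} :
    a • gen I x = 0 ↔ a ∈ IntMult.stalkIdeal I x := by
  constructor
  · intro h
    obtain ⟨U, hxU, r, rfl⟩ := X.presheaf.exists_germ_eq a
    rw [smul_gen_germ] at h
    obtain ⟨V, hxV, i, j, he⟩ := (ClSub.quotMod I).presheaf.germ_eq x hxU hxU _ 0 (h.trans (map_zero _).symm)
    obtain ⟨W, hW, hxW, hWV⟩ := exists_isAffineOpen_mem_and_subset (x := x) (U := V) hxV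
    have hWU : W ≤ U := hWV.trans i.le
    have he' : I.subschemeι.app W (X.presheaf.map (homOfLE hWU).op r) = 0 := by
      have h1 := congrArg ((ClSub.quotMod I).presheaf.map (homOfLE hWV).op) he
      rw [map_zero, map_zero] at h1
      refine (AModX.app_res (ClSub.toSubscheme I) hWU
        (show Γ(Coh.structureModule X, U) from r)).trans ?_
      refine Eq.trans ?_ h1
      exact (ConcreteCategory.congr_hom ((ClSub.quotMod I).presheaf.map_comp i.op (homOfLE hWV).op) _)
    rw [IntMult63.stalkIdeal_eq I ⟨W, hW⟩ hxW, ← X.presheaf.germ_res_apply (homOfLE hWU) x hxW r]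
    exact Ideal.mem_map_of_mem _ ((I.ker_subschemeι_app ⟨W, hW⟩).le he')
  · intro h
    obtain ⟨W, hW, hxW, -⟩ := exists_isAffineOpen_mem_and_subset (x := x) (U := ⊤) trivial
    rw [IntMult63.stalkIdeal_eq I ⟨W, hW⟩ hxW] at h
    refine Submodule.span_induction (p := fun a _ => a • gen I x = 0) ?_ (zero_smul _ _) ?_ ?_ h
    · rintro _ ⟨r, hr, rfl⟩
      rw [smul_gen_germ, show I.subschemeι.app W r = 0 from (I.ker_subschemeι_app ⟨W, hW⟩).ge hr]
      exact map_zero _
    · intro a b _ _ ha hb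
      rw [add_smul, ha, hb, add_zero]
    · intro c a _ ha
      rw [smul_eq_mul, mul_smul, ha, smul_zero]

theorem exists_smul_gen (I : X.IdealSheafData) (x : X) (y : stk (ClSub.quotMod I) x) :
    ∃ a : X.presheaf.stalk x, y = a • gen I x := by
  haveI := CurvePoint.epi_toSubscheme I
  have hs : Function.Surjective (stkMap (ClSub.toSubscheme I) x) :=
    (ModuleCat.epi_iff_surjective _).1 inferInstance
  obtain ⟨z, rfl⟩ := hs y
  obtain ⟨a, rfl⟩ := exists_smul_one x z
  exact ⟨a, map_smul _ _ _⟩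

theorem stalkIdeal_mul (I J : X.IdealSheafData) (x : X) :
    IntMult.stalkIdeal (I * J) x = IntMult.stalkIdeal I x * IntMult.stalkIdeal J x := by
  obtain ⟨W, hW, hxW, -⟩ := exists_isAffineOpen_mem_and_subset (x := x) (U := ⊤) trivial
  rw [IntMult63.stalkIdeal_eq (I * J) ⟨W, hW⟩ hxW, IntMult63.stalkIdeal_eq I ⟨W, hW⟩ hxW,
    IntMult63.stalkIdeal_eq J ⟨W, hW⟩ hxW, Scheme.IdealSheafData.ideal_mul, Pi.mul_apply, Ideal.map_mul]

theorem stalkIdeal_one (x : X) : IntMult.stalkIdeal (1 : X.IdealSheafData) x = ⊤ := by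
  obtain ⟨W, hW, hxW, -⟩ := exists_isAffineOpen_mem_and_subset (x := x) (U := ⊤) trivial
  rw [IntMult63.stalkIdeal_eq _ ⟨W, hW⟩ hxW, Scheme.IdealSheafData.one_eq_top,
    Scheme.IdealSheafData.ideal_top, Pi.top_apply, Ideal.map_top]

theorem stalkIdeal_pow (I : X.IdealSheafData) (x : X) :
    ∀ n : ℕ, IntMult.stalkIdeal (I ^ n) x = IntMult.stalkIdeal I x ^ n
  | 0 => by rw [pow_zero, pow_zero, stalkIdeal_one, Ideal.one_eq_top]
  | n + 1 => by rw [pow_succ, pow_succ, stalkIdeal_mul, stalkIdeal_pow I x n]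

theorem stalkIdeal_eq_top {I : X.IdealSheafData} {x : X} (h : x ∉ I.support) :
    IntMult.stalkIdeal I x = ⊤ := by
  by_contra hne
  obtain ⟨W, hW, hxW, -⟩ := exists_isAffineOpen_mem_and_subset (x := x) (U := ⊤) trivial
  letI := X.presheaf.algebra_section_stalk ⟨x, hxW⟩
  haveI := hW.isLocalization_stalk ⟨x, hxW⟩
  refine h ?_
  have hq := (IntMult63.mem_support_iff_le hW hxW I (IsLocalRing.closedPoint _)).2
    (IsLocalRing.le_maximalIdeal hne)
  have he : PrimeSpectrum.comap (X.presheaf.germ W x hxW).hom (IsLocalRing.closedPoint _) =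
      hW.primeIdealOf ⟨x, hxW⟩ :=
    PrimeSpectrum.ext (IsLocalization.AtPrime.comap_maximalIdeal (X.presheaf.stalk x)
      (hW.primeIdealOf ⟨x, hxW⟩).asIdeal)
  rwa [he, hW.fromSpec_primeIdealOf] at hq

/-- No other point generizes to a point of height zero. -/
theorem isPrime_eq_maximal {x : X} (hmin : ∀ y, y ⤳ x → y = x) (q : Ideal (X.presheaf.stalk x))
    [hq : q.IsPrime] : q = IsLocalRing.maximalIdeal (X.presheaf.stalk x) := by
  obtain ⟨W, hW, hxW, -⟩ := exists_isAffineOpen_mem_and_subset (x := x) (U := ⊤) trivial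
  letI := X.presheaf.algebra_section_stalk ⟨x, hxW⟩
  haveI := hW.isLocalization_stalk ⟨x, hxW⟩
  have he := hmin _ (IntMult63.exists_point hW hxW ⟨q, hq⟩)
  have hp : PrimeSpectrum.comap (algebraMap Γ(X, W) (X.presheaf.stalk x)) ⟨q, hq⟩ =
      hW.primeIdealOf ⟨x, hxW⟩ :=
    hW.fromSpec.isOpenEmbedding.injective (he.trans (hW.fromSpec_primeIdealOf ⟨x, hxW⟩).symm)
  refine (IsLocalRing.le_maximalIdeal hq.ne_top).antisymm ?_
  show IsLocalRing.maximalIdeal _ ≤ (⟨q, hq⟩ : PrimeSpectrum (X.presheaf.stalk x)).asIdeal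
  rw [← IsLocalization.AtPrime.map_eq_maximalIdeal (hW.primeIdealOf ⟨x, hxW⟩).asIdeal
    (X.presheaf.stalk x), ← hp]
  exact Ideal.map_comap_le

theorem exists_pow_maximalIdeal_eq_bot [IsLocallyNoetherian X] {x : X} (hmin : ∀ y, y ⤳ x → y = x) :
    ∃ n : ℕ, IsLocalRing.maximalIdeal (X.presheaf.stalk x) ^ n = ⊥ := by
  have hle : IsLocalRing.maximalIdeal (X.presheaf.stalk x) ≤ nilradical (X.presheaf.stalk x) := by
    rw [nilradical_eq_sInf]
    exact le_sInf fun q hq => haveI : q.IsPrime := hq; (isPrime_eq_maximal hmin q).ge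
  exact (IsNoetherianRing.isNilpotent_nilradical (X.presheaf.stalk x)).imp fun n hn =>
    le_bot_iff.1 ((Ideal.pow_right_mono hle n).trans hn.le)

theorem support_clIdeal (ξ : X) : ((VarBase.clIdeal ξ).support : Set X) = closure {ξ} := by
  rw [← Scheme.IdealSheafData.range_subschemeι, VarBase.range_clIdeal]

theorem stalkIdeal_clIdeal_self {ξ : X} (hmin : ∀ y, y ⤳ ξ → y = ξ) :
    IntMult.stalkIdeal (VarBase.clIdeal ξ) ξ = IsLocalRing.maximalIdeal (X.presheaf.stalk ξ) := by
  haveI := SurfInt.isIntegral_clIdeal ξ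
  have hs : ξ ∈ (VarBase.clIdeal ξ).support :=
    (support_clIdeal ξ).ge (subset_closure (Set.mem_singleton ξ))
  haveI := IntMult63.isPrime_stalkIdeal (VarBase.clIdeal ξ) hs
  exact isPrime_eq_maximal hmin _

end Groth.Agent.LS17.NefH1
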