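import Groth.Agent.LS17.NefH1.VAGen
import Groth.Agent.AmpleX.RelAffine

/-! Very ampleness of ample modules on proper schemes of relative dimension one with `H¹(O) = 0`. -/

noncomputable section

set_option linter.style.haveILetI false
set_option linter.unusedSectionVars false
set_option backward.isDefEq.respectTransparency false
set_option backward.isDefEq.respectTransparency.types false
set_option maxHeartbeats 800000

universe u

open CategoryTheory CategoryTheory.Limits AlgebraicGeometry TopologicalSpace Opposite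

namespace Groth.Agent.LS17.NefH1

open Groth.Agent Groth.Agent.InvX Groth.Agent.H23

variable {A : Type u} [CommRing A] [IsNoetherianRing A] {X : Scheme.{u}}
  [X.Over (Spec (CommRingCat.of A))] [IsProper (X ↘ Spec (CommRingCat.of A))]

/-- Finitely many sections spanning all global sections over the base ring. -/
theorem exists_lin_gens {M : X.Modules} (hM : Coh.IsCoh M) :
    ∃ (n : ℕ) (s : Fin (n + 1) → Γ(M, ⊤)), ∀ z : Γ(M, ⊤), ∃ c : Fin (n + 1) → Γ(Spec (CommRingCat.of A), ⊤),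
      z = ∑ l, (X ↘ Spec (CommRingCat.of A)).appTop (c l) • s l := by
  classical
  haveI : Module.Finite A (Coh.HH X M 0) := S0002.result A X M hM 0
  obtain ⟨N, g, hg⟩ := Submodule.fg_iff_exists_fin_generating_family.1
    (Module.Finite.fg_top (R := A) (M := Coh.HH X M 0))
  let e := Sheaf.H.equiv₀ (Coh.toAb M) isTerminalTop
  refine ⟨N, Fin.cons (0 : Γ(M, ⊤)) fun j => (e (g j) : Γ(M, ⊤)), fun z => ?_⟩
  obtain ⟨c, hc⟩ := (Submodule.mem_span_range_iff_exists_fun A).1
    (hg.ge (Submodule.mem_top (x := e.symm z)))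
  refine ⟨Fin.cons 0 fun j => (Scheme.ΓSpecIso (CommRingCat.of A)).inv (c j), ?_⟩
  rw [Fin.sum_univ_succ]
  simp only [Fin.cons_zero, Fin.cons_succ, smul_zero, zero_add]
  have hz : z = (e (∑ j, c j • g j) : Γ(M, ⊤)) :=
    (e.apply_symm_apply z).symm.trans (congrArg e hc.symm)
  refine hz.trans ((map_sum e _ _).trans (Finset.sum_congr rfl fun j _ => ?_))
  refine ((Sheaf.H.equiv₀_naturality isTerminalTop
    (Coh.smulAb M (Coh.toGlobal (X ↘ Spec (CommRingCat.of A)) (c j))) (g j)).symm.trans ?_)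
  refine congrArg (fun a : Γ(X, ⊤) => a • (show Γ(M, ⊤) from e (g j))) ?_
  exact ConcreteCategory.congr_hom (X.presheaf.map_id (op ⊤)) _

omit [IsNoetherianRing A] [X.Over (Spec (CommRingCat.of A))] [IsProper (X ↘ Spec (CommRingCat.of A))] in
/-- Generation at every point passes to spanning sections. -/
theorem mem_locus_of_lin {L : X.Modules} {n b : ℕ} (q : Fin (n + 1) → Γ(L, ⊤))
    (σ : Fin b → Γ(L, ⊤)) (hL : PicF.IsInvertible L) (hσ : ∀ x : X, ∃ j, x ∈ TrivBasic.locus (σ j))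
    (hlin : ∀ z : Γ(L, ⊤), ∃ c : Fin (n + 1) → Γ(X, ⊤), z = ∑ l, c l • q l) :
    ∀ x : X, ∃ l, x ∈ TrivBasic.locus (q l) := by
  intro x
  obtain ⟨j, hj⟩ := hσ x
  have hgen : ProjUP.GeneratedBy L q := fun y => by
    obtain ⟨i, hi⟩ := hσ y
    refine eq_top_iff.2 fun z _ => ?_
    obtain ⟨c, hc⟩ := ((TrivBasic.isFrame_res_of_le_locus (le_refl (TrivBasic.locus (σ i)))).germ_bijective hi).2 z
    rw [← hc]
    refine Submodule.smul_mem _ c ?_
    rw [InvX.germ_res' (le_top : TrivBasic.locus (σ i) ≤ ⊤) hi (σ i)]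
    obtain ⟨d, hd⟩ := hlin (σ i)
    refine (congrArg (· ∈ _) ((congrArg (L.presheaf.germ ⊤ y trivial) hd).trans (map_sum _ _ _))).mpr ?_
    refine Submodule.sum_mem _ fun l _ => ?_
    rw [QCoh.germ_smul']
    exact Submodule.smul_mem _ _ (Submodule.subset_span ⟨l, rfl⟩)
  obtain ⟨l, U, hxU, hU⟩ := InvX.exists_frame_of_generated hL q x (hgen x)
  exact ⟨l, TrivBasic.le_locus hU hxU⟩

/-- The hypotheses of the very ampleness criterion. -/
theorem exists_gen_data (hfib : DimLE A (X := X)) (h1 : Subsingleton (Coh.HH X (Coh.structureModule X) 1))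
    {L : X.Modules} (hA : CohB1.IsAmple L) :
    ∃ (n : ℕ) (s : Fin (n + 1) → Γ(L, ⊤)), (∀ x : X, ∃ l, x ∈ TrivBasic.locus (s l)) ∧
      (∀ z : Γ(L, ⊤), ∃ c : Fin (n + 1) → Γ(Spec (CommRingCat.of A), ⊤),
        z = ∑ l, (X ↘ Spec (CommRingCat.of A)).appTop (c l) • s l) ∧
      ∀ m : ℕ, 1 ≤ m → ∀ T : Γ(CohB1.tensorMod (CohB1.tensorPow L m) L, ⊤),
        ∃ v : Fin (n + 1) → Γ(CohB1.tensorPow L m, ⊤), T = ∑ l, InvX.tmul (v l) (s l) := by
  haveI : CompactSpace X := hA.2.1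
  obtain ⟨hgg, -⟩ := gg_and_h1_rel hfib h1 hA.1 (relNef_of_isAmple A hA)
  obtain ⟨b, σ, hσ⟩ := exists_sections hA.1 hgg
  haveI := LocallyOfFiniteType.isLocallyNoetherian (X ↘ Spec (CommRingCat.of A))
  obtain ⟨n, s, hs⟩ := exists_lin_gens (A := A) (AmpleVan.isCoh_invertible hA.1 : Coh.IsCoh L)
  have hloc := mem_locus_of_lin s σ hA.1 hσ fun z => by
    obtain ⟨c, hc⟩ := hs z
    exact ⟨fun l => (X ↘ Spec (CommRingCat.of A)).appTop (c l), hc⟩
  exact ⟨n, s, hloc, hs, fun m hm T => exists_sum_tmul_pow s hloc hfib hA.1 0 h1 m hm T⟩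

omit [IsNoetherianRing A] [X.Over (Spec (CommRingCat.of A))] [IsProper (X ↘ Spec (CommRingCat.of A))] in
/-- An ample normally generated module is generated by sections spanning its sections. -/
theorem mem_locus_of_normallyGenerated {L : X.Modules} (hA : CohB1.IsAmple L) {n : ℕ}
    (s : Fin (n + 1) → Γ(L, ⊤))
    (hlin : ∀ z : Γ(L, ⊤), ∃ c : Fin (n + 1) → Γ(X, ⊤), z = ∑ l, c l • s l)
    (hmul : ∀ m : ℕ, 1 ≤ m → ∀ T : Γ(CohB1.tensorMod (CohB1.tensorPow L m) L, ⊤),
      ∃ v : Fin (n + 1) → Γ(CohB1.tensorPow L m, ⊤), T = ∑ l, InvX.tmul (v l) (s l))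
    (x : X) : ∃ l, x ∈ TrivBasic.locus (s l) := by
  classical
  obtain ⟨m, t, hxt, -⟩ := hA.2.2 x
  obtain ⟨v, hv⟩ : ∃ v : Fin (n + 1) → Γ(CohB1.tensorPow L m, ⊤),
      (InvX.one t : Γ(CohB1.tensorMod (CohB1.tensorPow L m) L, ⊤)) = ∑ l, InvX.tmul (v l) (s l) := by
    rcases Nat.eq_zero_or_pos m with rfl | hm
    · obtain ⟨z, hz⟩ := exists_one_tmul (M := L) (U := ⊤) (InvX.one t)
      obtain ⟨c, rfl⟩ := hlin z
      refine ⟨fun l => (show Γ(Coh.structureModule X, ⊤) from c l), unitTensor_injective L ⊤ ?_⟩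
      refine (congrArg ((unitTensor L).app ⊤) hz).trans ((unitTensor_tmul (M := L) (1 : Γ(X, ⊤)) _).trans ?_)
      rw [one_smul]
      refine Eq.trans ?_ (map_sum ((unitTensor L).app ⊤).hom _ _).symm
      exact Finset.sum_congr rfl fun l _ => (unitTensor_tmul (M := L) (c l) (s l)).symm
    · exact hmul m hm _
  obtain ⟨U, hxU, e, he⟩ := InvX.exists_frame hA.1 x
  have hp := AmpleX.isFrame_powElt he m
  choose α hα using fun l => hp.exists_coord le_rfl (AModX.res _ (le_top : U ≤ ⊤) (v l))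
  choose β hβ using fun l => he.exists_coord le_rfl (AModX.res L (le_top : U ≤ ⊤) (s l))
  simp only [AModX.res_self] at hα hβ
  have hγ : AModX.res (CohB1.tensorPow L (m + 1)) (le_top : U ≤ ⊤) (InvX.one t) =
      (∑ l, α l * β l) • AmpleX.powElt e (m + 1) := by
    refine (congrArg (AModX.res (CohB1.tensorMod (CohB1.tensorPow L m) L) (le_top : U ≤ ⊤)) hv).trans ?_
    rw [map_sum, Finset.sum_smul]
    refine Finset.sum_congr rfl fun l _ => ?_
    rw [InvX.res_tmul, hα l, hβ l, InvX.tmul_smul_left, InvX.tmul_smul_right, ← mul_smul]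
    rfl
  have hx : x ∈ X.basicOpen (∑ l, α l * β l) :=
    (InvX.genLocus_inf t (AmpleX.isFrame_powElt he (m + 1)) hγ).le ⟨hxt, hxU⟩
  rw [X.mem_basicOpen (U := U) _ x hxU, map_sum] at hx
  by_contra hcon
  push Not at hcon
  refine (IsLocalRing.mem_maximalIdeal _).1 (Ideal.sum_mem _ fun l _ => ?_) hx
  rw [map_mul]
  refine Ideal.mul_mem_left _ _ ((IsLocalRing.mem_maximalIdeal _).2 fun hu => hcon l ?_)
  have hmem : x ∈ X.basicOpen (β l) := (X.mem_basicOpen (U := U) _ x hxU).2 hu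
  rw [← InvX.genLocus_inf (InvX.ofSect (s l)) he (by rw [InvX.one_ofSect]; exact hβ l)] at hmem
  exact hmem.1

/-- An ample normally generated module is very ample. -/
theorem isRelVeryAmplePn_of_normallyGenerated {R : Type u} [CommRing R] [IsNoetherianRing R] {Y : Scheme.{u}}
    (f : Y ⟶ Spec (CommRingCat.of R)) [IsProper f] (L : Y.Modules) (hA : CohB1.IsAmple L)
    (hng : ∀ n : ℕ, 1 ≤ n → AddSubgroup.closure {t | ∃ (m : (CohB1.tensorPow L n).val.obj (op ⊤))
      (s : L.val.obj (op ⊤)), t = SecTwist.tmul (CohB1.tensorPow L n) L ⊤ m s} = ⊤) :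
    RelAmple.IsRelVeryAmplePn f L := by
  classical
  letI : Y.Over (Spec (CommRingCat.of R)) := ⟨f⟩
  haveI : IsProper (Y ↘ Spec (CommRingCat.of R)) := ‹IsProper f›
  haveI : Y.IsSeparated := ⟨by
    rw [← Limits.terminal.comp_from f]
    infer_instance⟩
  haveI := LocallyOfFiniteType.isLocallyNoetherian f
  obtain ⟨n, s, hlin⟩ := exists_lin_gens (A := R) (AmpleVan.isCoh_invertible hA.1 : Coh.IsCoh L)
  have hmul : ∀ m : ℕ, 1 ≤ m → ∀ T : Γ(CohB1.tensorMod (CohB1.tensorPow L m) L, ⊤),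
      ∃ v : Fin (n + 1) → Γ(CohB1.tensorPow L m, ⊤), T = ∑ l, InvX.tmul (v l) (s l) := by
    intro m hm T
    have hT : T ∈ AddSubgroup.closure {t | ∃ (a : (CohB1.tensorPow L m).val.obj (op ⊤))
        (z : L.val.obj (op ⊤)), t = SecTwist.tmul (CohB1.tensorPow L m) L ⊤ a z} := by
      rw [hng m hm]; trivial
    have hzero : (0 : Γ(CohB1.tensorMod (CohB1.tensorPow L m) L, ⊤)) =
        ∑ l, InvX.tmul (0 : Γ(CohB1.tensorPow L m, ⊤)) (s l) :=
      (Finset.sum_eq_zero fun l _ => by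
        rw [← zero_smul Γ(Y, ⊤) (0 : Γ(CohB1.tensorPow L m, ⊤)), InvX.tmul_smul_left, zero_smul]).symm
    have hadd : ∀ (a b : Γ(CohB1.tensorPow L m, ⊤)) (z : Γ(L, ⊤)),
        InvX.tmul (a + b) z = InvX.tmul a z + InvX.tmul b z := fun a b z => by
      refine Eq.trans (congrArg ((KFlatLib.unitShP _).app (op ⊤)) (KFlatLib.tm_add_left
        (P := CohB1.toPMod (CohB1.tensorPow L m)) (Q := CohB1.toPMod L) a b z)) ?_
      exact map_add _ _ _
    induction hT using AddSubgroup.closure_induction with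
    | mem t ht =>
      obtain ⟨a, z, rfl⟩ := ht
      obtain ⟨c, hc⟩ := hlin z
      refine ⟨fun l => (Y ↘ Spec (CommRingCat.of R)).appTop (c l) • (show Γ(CohB1.tensorPow L m, ⊤) from a), ?_⟩
      show InvX.tmul (show Γ(CohB1.tensorPow L m, ⊤) from a) (show Γ(L, ⊤) from z) = _
      rw [show (show Γ(L, ⊤) from z) = _ from hc]
      let φ : Γ(L, ⊤) →+ Γ(CohB1.tensorMod (CohB1.tensorPow L m) L, ⊤) :=
        AddMonoidHom.mk' (InvX.tmul (show Γ(CohB1.tensorPow L m, ⊤) from a)) fun b b' => by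
          refine Eq.trans (congrArg ((KFlatLib.unitShP _).app (op ⊤)) (KFlatLib.tm_add_right
            (P := CohB1.toPMod (CohB1.tensorPow L m)) (Q := CohB1.toPMod L) _ b b')) ?_
          exact map_add _ _ _
      refine (map_sum φ _ _).trans (Finset.sum_congr rfl fun l _ => ?_)
      show InvX.tmul _ (_ • _) = InvX.tmul (_ • _) _
      rw [InvX.tmul_smul_right, InvX.tmul_smul_left]
    | zero => exact ⟨0, hzero⟩
    | add a b _ _ ha hb =>
      obtain ⟨v, hv⟩ := ha
      obtain ⟨w, hw⟩ := hb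
      refine ⟨v + w, ?_⟩
      subst hv; subst hw
      refine (Finset.sum_add_distrib).symm.trans (Finset.sum_congr rfl fun l _ => ?_)
      exact (hadd _ _ _).symm
    | neg a _ ha =>
      obtain ⟨v, hv⟩ := ha
      subst hv
      refine ⟨-v, (neg_eq_of_add_eq_zero_right ?_)⟩
      refine Eq.trans (Finset.sum_add_distrib).symm (Eq.trans (Finset.sum_congr rfl fun l _ => ?_) hzero.symm)
      rw [← hadd, Pi.neg_apply, add_neg_cancel]
  have hs := mem_locus_of_normallyGenerated hA s (fun z => by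
    obtain ⟨c, hc⟩ := hlin z
    exact ⟨fun l => (Y ↘ Spec (CommRingCat.of R)).appTop (c l), hc⟩) hmul
  exact isRelVeryAmplePn_of_gen s f hlin hmul hs hA

end Groth.Agent.LS17.NefH1
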