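import Groth.Agent.LS17.NefH1.AmpleNef
import Groth.Agent.AmpleX.Basis
import Mathlib.AlgebraicGeometry.QuasiAffine

/-! An ample invertible module whose section ring is generated in degree one is very ample. -/

noncomputable section

set_option linter.style.haveILetI false
set_option linter.unusedSectionVars false
set_option backward.isDefEq.respectTransparency false
set_option backward.isDefEq.respectTransparency.types false
set_option maxHeartbeats 800000

universe u

open CategoryTheory CategoryTheory.Limits AlgebraicGeometry TopologicalSpace Opposite HomogeneousLocalization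

namespace Groth.Agent.LS17.NefH1

open Groth.Agent Groth.Agent.InvX Groth.Agent.H23

variable {X S : Scheme.{u}}

/-- From a quasi-affine scheme to an affine one, surjective on functions: an immersion. -/
theorem isImmersion_of_surjective {G Y : Scheme.{u}} [G.IsQuasiAffine] [IsAffine Y] (g : G ⟶ Y)
    (h : Function.Surjective g.appTop) : IsImmersion g := by
  haveI : IsClosedImmersion (Spec.map g.appTop) := IsClosedImmersion.spec_of_surjective _ h
  have e : g = G.toSpecΓ ≫ Spec.map g.appTop ≫ Y.isoSpec.inv := by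
    rw [← Category.assoc, Iso.eq_comp_inv, Scheme.isoSpec_hom]
    exact Scheme.toSpecΓ_naturality g
  rw [e]
  infer_instance

variable [X.IsSeparated] {L : X.Modules} {n : ℕ} (s : Fin (n + 1) → Γ(L, ⊤))

/-- The locus of a section of an ample module is quasi-affine. -/
theorem isQuasiAffine_locus (hA : CohB1.IsAmple L) (σ : Γ(L, ⊤)) :
    (TrivBasic.locus σ).toScheme.IsQuasiAffine := by
  let G := TrivBasic.locus σ
  haveI : CompactSpace X := hA.2.1
  haveI := InvX.isAffineHom_genLocus_ι hA.1 (ofSect σ)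
  haveI : CompactSpace G.toScheme :=
    QuasiCompact.compactSpace_of_compactSpace (CohB1.genLocus L (ofSect σ)).ι
  refine Scheme.IsQuasiAffine.of_forall_exists_mem_basicOpen _ fun x => ?_
  obtain ⟨m, -, t, hxt, hle, hat⟩ := AmpleX.exists_genLocus_le hA (U := G) (x := G.ι x) x.2
  have hf := AmpleX.isFrame_powElt (TrivBasic.isFrame_res_of_le_locus (le_refl G)) m
  obtain ⟨g, hg⟩ := hf.exists_coord le_rfl (AModX.res (CohB1.tensorPow L m) (le_top : G ≤ ⊤) (InvX.one t))
  rw [AModX.res_self] at hg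
  have hb : CohB1.genLocus _ t = X.basicOpen g := by
    rw [← InvX.genLocus_inf t hf hg]
    exact (inf_eq_left.2 hle).symm
  refine ⟨G.topIso.inv g, ?_⟩
  have hpre : G.toScheme.basicOpen (G.topIso.inv g) = G.ι ⁻¹ᵁ (CohB1.genLocus _ t) := by
    apply G.ι.image_injective
    beta_reduce
    rw [Scheme.Hom.image_preimage_eq_opensRange_inf, Scheme.Opens.opensRange_ι, inf_eq_right.2 hle, hb,
      Scheme.image_basicOpen]
    simp
    exact Scheme.basicOpen_res_eq X g _
  rw [hpre]
  refine ⟨?_, hxt⟩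
  exact hat.preimage_of_isOpenImmersion G.ι (by rw [Scheme.Opens.opensRange_ι]; exact hle)

variable (q : X ⟶ S)
  (hlin : ∀ z : Γ(L, ⊤), ∃ c : Fin (n + 1) → Γ(S, ⊤), z = ∑ l, q.appTop (c l) • s l)
  (hmul : ∀ m : ℕ, 1 ≤ m → ∀ T : Γ(CohB1.tensorMod (CohB1.tensorPow L m) L, ⊤),
    ∃ v : Fin (n + 1) → Γ(CohB1.tensorPow L m, ⊤), T = ∑ l, InvX.tmul (v l) (s l))

include hlin hmul in
/-- The functions on the locus of a section are generated by the ratios. -/
theorem gen_eq_top (hA : CohB1.IsAmple L) (j : Fin (n + 1)) (B : Subring Γ(X, TrivBasic.locus (s j)))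
    (hq : Set.range (q.appLE ⊤ (TrivBasic.locus (s j)) le_top).hom ⊆ B)
    (hr : ∀ (l : Fin (n + 1)) (b : Γ(X, TrivBasic.locus (s j))),
      AModX.res L (le_top : TrivBasic.locus (s j) ≤ ⊤) (s l) =
        b • AModX.res L (le_top : TrivBasic.locus (s j) ≤ ⊤) (s j) → b ∈ B) : B = ⊤ := by
  classical
  haveI : CompactSpace X := hA.2.1
  let G : X.Opens := TrivBasic.locus (s j)
  let e : Γ(L, G) := AModX.res L (le_top : G ≤ ⊤) (s j)
  have he : IsFrame e := TrivBasic.isFrame_res_of_le_locus le_rfl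
  have h1 : ∀ z : Γ(L, ⊤), ∃ β ∈ B, AModX.res L (le_top : G ≤ ⊤) z = β • e := fun z => by
    obtain ⟨c, rfl⟩ := hlin z
    choose β hβ using fun l => he.exists_coord le_rfl (AModX.res L (le_top : G ≤ ⊤) (s l))
    simp only [AModX.res_self] at hβ
    refine ⟨∑ l, AModX.resR (le_top : G ≤ ⊤) (q.appTop (c l)) * β l,
      Subring.sum_mem _ fun l _ => B.mul_mem (hq ⟨c l, rfl⟩) (hr l (β l) (hβ l)), ?_⟩
    rw [map_sum, Finset.sum_smul]
    refine Finset.sum_congr rfl fun l _ => ?_
    rw [AModX.res_smul, hβ l, mul_smul]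
  have hall : ∀ m (T : Γ(CohB1.tensorPow L m, ⊤)), ∃ β ∈ B,
      AModX.res (CohB1.tensorPow L m) (le_top : G ≤ ⊤) T = β • AmpleX.powElt e m := by
    intro m
    induction m with
    | zero =>
      intro T
      obtain ⟨β, hβ, hT⟩ := h1 ((show Γ(X, ⊤) from T) • s j)
      rw [AModX.res_smul] at hT
      refine ⟨β, hβ, ?_⟩
      have h2 : AModX.resR (le_top : G ≤ ⊤) (show Γ(X, ⊤) from T) = β :=
        he.coord_unique le_rfl (by rw [AModX.res_self]; exact hT)
      rw [← h2]
      exact (mul_one (AModX.resR (le_top : G ≤ ⊤) (show Γ(X, ⊤) from T))).symm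
    | succ m ih =>
      intro T
      obtain ⟨v, rfl⟩ : ∃ v : Fin (n + 1) → Γ(CohB1.tensorPow L m, ⊤), T = ∑ l, InvX.tmul (v l) (s l) := by
        rcases Nat.eq_zero_or_pos m with rfl | hm
        · obtain ⟨t, rfl⟩ := exists_one_tmul (M := L) (U := ⊤) T
          obtain ⟨c, rfl⟩ := hlin t
          refine ⟨fun l => (show Γ(Coh.structureModule X, ⊤) from q.appTop (c l)), unitTensor_injective L ⊤ ?_⟩
          refine (unitTensor_tmul (M := L) (1 : Γ(X, ⊤)) _).trans ?_
          rw [one_smul]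
          refine Eq.trans ?_ (map_sum ((unitTensor L).app ⊤).hom _ _).symm
          exact Finset.sum_congr rfl fun l _ => (unitTensor_tmul (M := L) (q.appTop (c l)) (s l)).symm
        · exact hmul m hm T
      choose α hα hv using fun l => ih (v l)
      choose β hβ hs using fun l => h1 (s l)
      refine ⟨∑ l, α l * β l, Subring.sum_mem _ fun l _ => B.mul_mem (hα l) (hβ l), ?_⟩
      show AModX.res (CohB1.tensorMod (CohB1.tensorPow L m) L) _ _ = _
      rw [map_sum, Finset.sum_smul]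
      refine Finset.sum_congr rfl fun l _ => ?_
      rw [InvX.res_tmul, hv l, hs l, InvX.tmul_smul_left, InvX.tmul_smul_right, ← mul_smul]
      rfl
  refine top_le_iff.1 fun b _ => ?_
  obtain ⟨m, h⟩ := AmpleX.exists_extend' (M := Coh.structureModule X) (AmpleX.isQCoh_one X) hA.1
    (ofSect (s j)) (show Γ(Coh.structureModule X, G) from b)
  obtain ⟨T, hT⟩ := h m le_rfl
  rw [InvX.one_ofSect] at hT
  let U := unitTensor (CohB1.tensorPow L m)
  obtain ⟨β, hβ, hTβ⟩ := hall m (U.app ⊤ T)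
  have h2 : b • AmpleX.powElt e m = β • AmpleX.powElt e m := by
    refine Eq.trans ?_ hTβ
    refine Eq.trans ?_ (AModX.app_res U (le_top : G ≤ ⊤) T)
    refine ((congrArg (U.app G) hT).trans ?_).symm
    exact unitTensor_tmul b _
  rw [(AmpleX.isFrame_powElt he m).coord_unique le_rfl (r := b) (r' := β) (by rw [AModX.res_self]; exact h2)]
  exact hβ

omit [X.IsSeparated] in
/-- The surjectivity on the charts gives an immersion. -/
theorem isImmersion_restrict {P : Scheme.{u}} (r : X ⟶ P) (D : P.Opens) (hD : IsAffineOpen D) (U : X.Opens)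
    (hU : U.toScheme.IsQuasiAffine) (hpre : r ⁻¹ᵁ D = U) (hsurj : Function.Surjective (r.appLE D U hpre.ge)) :
    IsImmersion (r ∣_ D) := by
  haveI : IsAffine (D : Scheme) := hD
  haveI : (r ⁻¹ᵁ D).toScheme.IsQuasiAffine := hpre ▸ hU
  refine isImmersion_of_surjective _ ?_
  intro z
  rw [morphismRestrict_appTop]
  obtain ⟨y, hy⟩ := hsurj (X.presheaf.map (eqToHom hpre.symm).op ((r ⁻¹ᵁ D).topIso.hom z))
  refine ⟨D.topIso.inv y, (ConcreteCategory.bijective_of_isIso (r ⁻¹ᵁ D).topIso.hom).1 ?_⟩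
  apply (ConcreteCategory.bijective_of_isIso (X.presheaf.map (eqToHom hpre.symm).op)).1
  rw [← hy]
  simp only [← CommRingCat.comp_apply]
  congr 2
  simp only [Scheme.Hom.appLE, Scheme.Opens.topIso, Category.assoc]
  simp [← Functor.map_comp]
  rw [r.naturality_assoc, ← Functor.map_comp]
  rfl

variable (hs : ∀ x : X, ∃ l, x ∈ TrivBasic.locus (s l))

omit [X.IsSeparated] in
include hs in
theorem generatedBy_of_loci : ProjUP.GeneratedBy L s := fun x => by
  obtain ⟨j, hxj⟩ := hs x
  refine eq_top_iff.2 fun z _ => ?_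
  obtain ⟨c, hc⟩ := ((TrivBasic.isFrame_res_of_le_locus (le_refl (TrivBasic.locus (s j)))).germ_bijective hxj).2 z
  rw [← hc]
  exact Submodule.smul_mem _ c (Submodule.subset_span
    ⟨j, (InvX.germ_res' (le_top : TrivBasic.locus (s j) ≤ ⊤) hxj (s j)).symm⟩)

include hlin hmul hs in
/-- An ample module with section ring generated in degree one is very ample. -/
theorem isRelVeryAmplePn_of_gen [IsAffine S] (hA : CohB1.IsAmple L) : RelAmple.IsRelVeryAmplePn q L := by
  obtain ⟨i, r, τ, hfst, hsnd, hτ, hiso⟩ := Ega2Va.exists_lift q hA.1 s (generatedBy_of_loci s hs)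
  refine ⟨n, i, ?_, hsnd, hiso⟩
  let p₁ : CohB1.ProjSpaceOver n S ⟶ CohB1.ProjSpace n Ega2Va.ZZ.{u} :=
    pullback.fst (CohB1.ProjSpace.toSpec n Ega2Va.ZZ.{u}) (specULiftZIsTerminal.from S)
  let p₂ : CohB1.ProjSpaceOver n S ⟶ S :=
    pullback.snd (CohB1.ProjSpace.toSpec n Ega2Va.ZZ.{u}) (specULiftZIsTerminal.from S)
  replace hfst : i ≫ p₁ = r := hfst
  have hsnd' : i ≫ p₂ = q := hsnd
  let D₀ : Fin (n + 1) → (CohB1.ProjSpace n Ega2Va.ZZ.{u}).Opens := fun j =>
    Proj.basicOpen (CohB1.polyGrading n Ega2Va.ZZ.{u}) (MvPolynomial.X j)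
  let D : Fin (n + 1) → (CohB1.ProjSpaceOver n S).Opens := fun j => p₁ ⁻¹ᵁ D₀ j
  haveI : IsAffineHom p₁ := MorphismProperty.pullback_fst _ _ inferInstance
  have hD : ∀ j, IsAffineOpen (D j) := fun j =>
    (Proj.isAffineOpen_basicOpen _ _ (ProjPt.X_mem _) one_pos).preimage p₁
  have hr0 : ∀ j, r ⁻¹ᵁ D₀ j = TrivBasic.locus (s j) := fun j => AmpleEmbed.preimage_chart r τ j (hτ j)
  have hpre : ∀ j, i ⁻¹ᵁ D j = TrivBasic.locus (s j) := fun j => by
    rw [← hr0 j, ← hfst]; rfl
  refine Ega2Va.isImmersion_of_cover i D (fun x => ?_) fun j =>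
    isImmersion_restrict i (D j) (hD j) _ (isQuasiAffine_locus hA (s j)) (hpre j) ?_
  · obtain ⟨j, hj⟩ := hs x
    exact ⟨j, (hpre j).ge hj⟩
  · refine RingHom.range_eq_top.1 (gen_eq_top s q hlin hmul hA j _ ?_ ?_)
    · rintro _ ⟨c, rfl⟩
      refine ⟨p₂.appLE ⊤ (D j) le_top c, ?_⟩
      rw [← CommRingCat.comp_apply, Scheme.Hom.appLE_comp_appLE]
      simp only [hsnd']
    · intro l b hb
      refine ⟨p₁.appLE (D₀ j) (D j) le_rfl
        ((Proj.awayToSection (CohB1.polyGrading n Ega2Va.ZZ.{u}) (MvPolynomial.X j)).hom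
          (Away.mk (CohB1.polyGrading n Ega2Va.ZZ.{u}) (ProjPt.X_mem j) 1 (MvPolynomial.X l)
            (by rw [one_smul]; exact ProjPt.X_mem l))), ?_⟩
      rw [← CommRingCat.comp_apply, Scheme.Hom.appLE_comp_appLE]
      simp only [hfst]
      exact AmpleEmbed.ratioOf_eq r τ j l (hτ j) (hτ l) (hr0 j).ge b hb

include hs in
/-- The version for proper schemes over an affine base: a closed immersion into projective space. -/
theorem exists_closedImmersion_of_gen {R : Type u} [CommRing R] (f : X ⟶ Spec (CommRingCat.of R)) [IsProper f]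
    (hA : CohB1.IsAmple L)
    (hlin : ∀ z : Γ(L, ⊤), ∃ c : Fin (n + 1) → Γ(Spec (CommRingCat.of R), ⊤), z = ∑ l, f.appTop (c l) • s l)
    (hmul : ∀ m : ℕ, 1 ≤ m → ∀ T : Γ(CohB1.tensorMod (CohB1.tensorPow L m) L, ⊤),
      ∃ v : Fin (n + 1) → Γ(CohB1.tensorPow L m, ⊤), T = ∑ l, InvX.tmul (v l) (s l)) :
    ∃ i : X ⟶ CohB1.ProjSpace n R, IsClosedImmersion i ∧ i ≫ CohB1.ProjSpace.toSpec n R = f ∧
      Nonempty ((Scheme.Modules.pullback i).obj (Twist.twistProjSpace n R 1) ≅ L) := by
  obtain ⟨r, hr, τ, hτ⟩ := S3572.result n f L hA.1 s (generatedBy_of_loci s hs)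
  refine ⟨r, ?_, hr, ⟨τ⟩⟩
  haveI : IsProper (CohB1.ProjSpace.toSpec n R) := PnCoh.Chow.isProper_toSpec n R
  haveI : IsProper r := by
    haveI : IsProper (r ≫ CohB1.ProjSpace.toSpec n R) := hr ▸ ‹IsProper f›
    exact IsProper.of_comp r (CohB1.ProjSpace.toSpec n R)
  let D : Fin (n + 1) → (CohB1.ProjSpace n R).Opens := fun j =>
    Proj.basicOpen (CohB1.polyGrading n R) (MvPolynomial.X j)
  have hpre : ∀ j, r ⁻¹ᵁ D j = TrivBasic.locus (s j) := fun j => AmpleEmbed.preimage_chart r τ j (hτ j)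
  haveI : IsImmersion r := by
    refine Ega2Va.isImmersion_of_cover r D (fun x => ?_) fun j =>
      isImmersion_restrict r (D j) (Proj.isAffineOpen_basicOpen _ _ (ProjPt.X_mem _) one_pos) _
        (isQuasiAffine_locus hA (s j)) (hpre j) ?_
    · obtain ⟨j, hj⟩ := hs x
      exact ⟨j, (hpre j).ge hj⟩
    · refine RingHom.range_eq_top.1 (gen_eq_top s f hlin hmul hA j _ ?_ ?_)
      · rintro _ ⟨c, rfl⟩
        refine ⟨(CohB1.ProjSpace.toSpec n R).appLE ⊤ (D j) le_top c, ?_⟩
        rw [← CommRingCat.comp_apply, Scheme.Hom.appLE_comp_appLE]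
        simp only [hr]
      · intro l b hb
        exact ⟨(Proj.awayToSection (CohB1.polyGrading n R) (MvPolynomial.X j)).hom
          (Away.mk (CohB1.polyGrading n R) (ProjPt.X_mem j) 1 (MvPolynomial.X l)
            (by rw [one_smul]; exact ProjPt.X_mem l)),
          AmpleEmbed.ratioOf_eq r τ j l (hτ j) (hτ l) (hpre j).ge b hb⟩
  exact .of_isPreimmersion _ r.isClosedMap.isClosed_range

end Groth.Agent.LS17.NefH1
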